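import Cfsg.Agent.POmegaDiag.Std

/-!
# The numerical cases for the two standard forms
-/

set_option autoImplicit false

namespace CfsgLib.POmegaDiag

open Matrix Module CfsgLib.Spinor CfsgLib.Forms CfsgLib.Forms4 CfsgLib.OutPOmega CfsgLib.StdForms

variable {F : Type*} [Field F] [Fintype F] [DecidableEq F] {m : ℕ}
  (hodd : Odd (Fintype.card F))

include hodd in
theorem negIso_plus_iff :
    negIso (plusQ m F) ∈ Cfsg.Omega F ⇑(plusQ m F) ↔ ¬ (Odd m ∧ Fintype.card F % 4 = 3) := by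
  rw [negIso_mem_iff, neg_one_mem_omega_plus rfl hodd m, plus_mod_four_iff hodd, and_comm]

theorem card_plus (m : ℕ) : Fintype.card (Fin m ⊕ Fin m) = 2 * m := by simp [two_mul]

theorem card_minus (m : ℕ) : Fintype.card ((Fin m ⊕ Fin m) ⊕ Fin 2) = 2 * (m + 1) := by
  simp [two_mul]; omega

include hodd in
theorem exists_sq_neg_plus (hm : 2 ≤ m) (P : TwoPairs (plusQ m F)) :
    ∃ d : ↥(Lin (plusQ m F)), sqHom P d.1 = -1 := by
  obtain ⟨g, hg, -⟩ := exists_swap_plus hodd P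
  exact ⟨g, hg⟩

variable {a b : F} (hab : ∀ z₁ z₂ : F, z₁ ^ 2 + a * z₁ * z₂ + b * z₂ ^ 2 = 0 → z₁ = 0 ∧ z₂ = 0)

include hodd hab in
theorem negIso_minus_iff :
    negIso (minusQ m F a b) ∈ Cfsg.Omega F ⇑(minusQ m F a b) ↔
      (Even m ∧ Fintype.card F % 4 = 3) := by
  rw [negIso_mem_iff, neg_one_mem_omega_minus rfl hodd m hab, pow_mod_four_iff hodd, and_comm,
    Nat.odd_add_one, Nat.not_odd_iff_even]

include hodd in
theorem preserves_iff_eps_plus (P : TwoPairs (plusQ m F)) (h2 : (2 : F) ≠ 0)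
    (x : ↥(Lin (plusQ m F))) :
    Cfsg.PreservesSingularClasses ⇑(plusQ m F) x.1.1.left.1 ↔
      eps h2 (plusQ_nondegenerate m) P (card_plus m) x = 1 := by
  rw [eps_eq_one_iff]
  have h := preserves_plus h2 m (mult x.1).ne_zero (lin_isSim x)
  rw [← coe_plusQ] at h
  exact h

include hodd hab in
theorem preserves_iff_eps_minus (P : TwoPairs (minusQ m F a b)) (h2 : (2 : F) ≠ 0)
    (x : ↥(Lin (minusQ m F a b))) :
    Cfsg.PreservesSingularClassesMinus m a b x.1.1.left.1 ↔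
      eps h2 (minusQ_nondegenerate m (disc_ne_zero hab)) P (card_minus m) x = 1 := by
  rw [eps_eq_one_iff]
  exact preserves_minus h2 m hab (mult x.1).ne_zero (lin_isSim x)

end CfsgLib.POmegaDiag
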