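import Cfsg.Agent.Forms.OrthDet
import Cfsg.Agent.Forms.SingularFamilies
import Cfsg.Prelude.Def_LieTypeDatum

/-!
# Determinant of a similitude and the two families of maximal singular subspaces

For a hyperbolic quadratic space of dimension `2 m` in characteristic not two, a similitude with
multiplier `μ` moves a maximal singular subspace `U` to one meeting it in codimension `k` exactly
when its determinant is `(-1) ^ k μ ^ m`; so it preserves the two families iff the determinant is
`μ ^ m`.
-/

set_option autoImplicit false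
set_option linter.unusedSectionVars false

namespace CfsgLib.POmegaDiag

open Matrix Module CfsgLib.Spinor CfsgLib.Forms CfsgLib.StdForms

variable {F : Type*} [Field F] {ι : Type} [Fintype ι] [DecidableEq ι]
  {Q : QuadraticForm F (ι → F)}

set_option quotPrecheck false in
local notation "B" => QuadraticMap.polar (DFunLike.coe Q)

/-- A matrix multiplying the form by `μ`. -/
def IsSim (Q : QuadraticForm F (ι → F)) (M : Matrix ι ι F) (μ : F) : Prop :=
  ∀ v, Q (M *ᵥ v) = μ * Q v

theorem IsSim.polar {M : Matrix ι ι F} {μ : F} (h : IsSim Q M μ) (u v : ι → F) :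
    B (M *ᵥ u) (M *ᵥ v) = μ * B u v := by
  simp only [QuadraticMap.polar, ← mulVec_add, h _]; ring

variable (hQ : (QuadraticMap.polarBilin Q).Nondegenerate) {m : ℕ}
  (hc : Fintype.card ι = 2 * m) {U : Submodule F (ι → F)} (hU : IsMaxSing Q m U)

include hc in
theorem finrank_space : finrank F (ι → F) = 2 * m := by
  rw [finrank_fintype_fun_eq_card, hc]

include hQ hc hU in
/-- A similitude fixing a maximal singular subspace has determinant `μ ^ m`. -/
theorem det_eq_of_map_le {M : Matrix ι ι F} {μ : F} (hM : IsSim Q M μ)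
    (hfix : ∀ u ∈ U, M *ᵥ u ∈ U) : M.det = μ ^ m := by
  classical
  obtain ⟨W, hW⟩ := U.exists_isCompl
  have hWd : finrank F W = m := by
    have := Submodule.finrank_add_eq_of_isCompl hW
    rw [hU.1, finrank_space hc] at this
    omega
  let b : Basis (Fin m) F U := finBasisOfFinrankEq F U hU.1
  let c : Basis (Fin m) F W := finBasisOfFinrankEq F W hWd
  let bb : Basis (Fin m ⊕ Fin m) F (ι → F) := (b.prod c).map (U.prodEquivOfIsCompl W hW)
  have hbl : ∀ i, bb (Sum.inl i) = (b i : ι → F) := fun i => by simp [bb]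
  have hbr : ∀ i, bb (Sum.inr i) = (c i : ι → F) := fun i => by simp [bb]
  set T := LinearMap.toMatrix bb bb (Matrix.toLin' M) with hT
  have hdet : T.det = M.det := by
    rw [hT, LinearMap.det_toMatrix, LinearMap.det_toLin']
  -- the lower left block vanishes
  have hzero : T.toBlocks₂₁ = 0 := by
    ext i j
    simp only [toBlocks₂₁, of_apply, hT, LinearMap.toMatrix_apply, Matrix.zero_apply]
    have hmem : M *ᵥ (b j : ι → F) ∈ U := hfix _ (b j).2
    rw [Matrix.toLin'_apply, hbl]
    have : bb.repr (M *ᵥ (b j : ι → F)) =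
        (b.prod c).repr ((⟨_, hmem⟩ : U), 0) := by
      rw [Basis.map_repr]
      simp only [LinearEquiv.trans_apply]
      congr 1
      rw [LinearEquiv.symm_apply_eq]
      simp
    rw [this]
    simp
  let G : Matrix (Fin m) (Fin m) F := fun i j => B (b i : ι → F) (c j : ι → F)
  have hUU : ∀ {x y : ι → F}, x ∈ U → y ∈ U → B x y = 0 := fun hx hy =>
    polar_eq_zero_of_singular hU.2 hx hy
  have hexp : ∀ x : Fin m ⊕ Fin m, M *ᵥ bb x =
      (∑ k, T (Sum.inl k) x • (b k : ι → F)) + ∑ k, T (Sum.inr k) x • (c k : ι → F) := by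
    intro x
    conv_lhs => rw [← bb.sum_repr (M *ᵥ bb x)]
    rw [Fintype.sum_sum_type]
    simp only [hbl, hbr, hT, LinearMap.toMatrix_apply, Matrix.toLin'_apply]
  -- the relation between the diagonal blocks
  have hrel : T.toBlocks₁₁ᵀ * G * T.toBlocks₂₂ = μ • G := by
    ext i j
    have h1 := hM.polar (bb (Sum.inl i)) (bb (Sum.inr j))
    rw [hexp, hexp] at h1
    have hz : ∀ k, T (Sum.inr k) (Sum.inl i) = 0 := fun k => congrFun (congrFun hzero k) i
    simp only [hz, zero_smul, Finset.sum_const_zero, add_zero] at h1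
    rw [QuadraticMap.polar_add_right, hUU (Submodule.sum_mem _ fun k _ => U.smul_mem _ (b k).2)
      (Submodule.sum_mem _ fun k _ => U.smul_mem _ (b k).2), zero_add] at h1
    rw [← QuadraticMap.polarBilin_apply_apply] at h1
    simp only [map_sum, map_smul, LinearMap.sum_apply, LinearMap.smul_apply, smul_eq_mul,
      QuadraticMap.polarBilin_apply_apply, hbl, hbr] at h1
    rw [Matrix.smul_apply, smul_eq_mul, ← show μ * B (b i : ι → F) (c j : ι → F) = μ * G i j from rfl,
      ← h1]
    rw [Matrix.mul_apply]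
    refine Finset.sum_congr rfl fun k _ => ?_
    rw [Matrix.mul_apply, Finset.sum_mul, Finset.mul_sum]
    refine Finset.sum_congr rfl fun l _ => ?_
    show T (Sum.inl l) (Sum.inl i) * G l k * T (Sum.inr k) (Sum.inr j) = _
    simp only [G]
    ring
  have hG : G.det ≠ 0 := by
    intro h0
    obtain ⟨v, hv, hGv⟩ := Matrix.exists_mulVec_eq_zero_iff.2 h0
    set y : ι → F := ∑ j, v j • (c j : ι → F) with hy
    have hyW : y ∈ W := Submodule.sum_mem _ fun j _ => W.smul_mem _ (c j).2
    have hyU : y ∈ U := by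
      refine mem_of_perp hQ (finrank_space hc) hU fun w hw => ?_
      have hlin : (QuadraticMap.polarBilin Q).flip y ∘ₗ U.subtype = 0 := b.ext fun i => by
        show B (b i : ι → F) y = 0
        rw [hy, ← QuadraticMap.polarBilin_apply_apply, map_sum]
        simp only [map_smul, smul_eq_mul, QuadraticMap.polarBilin_apply_apply]
        have := congrFun hGv i
        simp only [Matrix.mulVec, dotProduct, Pi.zero_apply, G] at this
        rw [← this]
        exact Finset.sum_congr rfl fun j _ => mul_comm _ _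
      exact LinearMap.congr_fun hlin ⟨w, hw⟩
    have hy0 : y = 0 := by
      have : y ∈ U ⊓ W := ⟨hyU, hyW⟩
      rwa [hW.inf_eq_bot, Submodule.mem_bot] at this
    refine hv (funext fun j => ?_)
    refine Fintype.linearIndependent_iff.1 c.linearIndependent v (Subtype.ext ?_) j
    simpa [hy] using hy0
  have hd := congrArg Matrix.det hrel
  rw [det_mul, det_mul, det_transpose, det_smul, Fintype.card_fin] at hd
  rw [← hdet, ← fromBlocks_toBlocks T, hzero, det_fromBlocks_zero₂₁]
  exact mul_right_cancel₀ hG (by linear_combination hd)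

include hQ hc hU in
/-- The sign is given by the codimension of `U ∩ g U`. -/
theorem det_eq_of_codim (h2 : (2 : F) ≠ 0) : ∀ (k : ℕ) (M : Matrix ι ι F) (μ : F), μ ≠ 0 →
    IsSim Q M μ → finrank F ↥(U ⊓ Cfsg.imageSubmodule M U) + k = m →
    M.det = (-1) ^ k * μ ^ m := by
  intro k
  induction k with
  | zero =>
    intro M μ _ hM hk
    rw [pow_zero, one_mul]
    refine det_eq_of_map_le hQ hc hU hM fun u hu => ?_
    have := Submodule.eq_of_le_of_finrank_le (inf_le_left : U ⊓ Cfsg.imageSubmodule M U ≤ U)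
      (by rw [hU.1]; omega)
    rw [inf_eq_left] at this
    have hle : finrank F ↥(Cfsg.imageSubmodule M U) ≤ finrank F U :=
      Submodule.finrank_map_le _ _
    rw [Submodule.eq_of_le_of_finrank_le this hle]
    exact ⟨u, hu, rfl⟩
  | succ k ih =>
    intro M μ hμ hM hk
    set W := Cfsg.imageSubmodule M U with hWdef
    have hWs : ∀ w ∈ W, Q w = 0 := by
      rintro _ ⟨u, hu, rfl⟩
      rw [Matrix.toLin'_apply, hM, hU.2 u hu, mul_zero]
    -- `M` is injective
    have hinj : Function.Injective (Matrix.toLin' M) := by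
      rw [injective_iff_map_eq_zero]
      intro v hv
      refine hQ.1 v fun w => ?_
      have := hM.polar v w
      rw [show M *ᵥ v = 0 from (Matrix.toLin'_apply M v).symm.trans hv,
        QuadraticMap.polar_zero_left] at this
      exact (mul_eq_zero.1 this.symm).resolve_left hμ
    have hWm : IsMaxSing Q m W := ⟨by
      rw [hWdef, Cfsg.imageSubmodule, ← LinearEquiv.finrank_eq
        (Submodule.equivMapOfInjective _ hinj U), hU.1], hWs⟩
    -- choose `u ∈ U \ W` and `w ∈ W` with `B u w ≠ 0`
    obtain ⟨u, huU, huW⟩ : ∃ u ∈ U, u ∉ W := by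
      by_contra h
      push Not at h
      have hUW : U ⊓ W = U := inf_eq_left.2 h
      rw [hUW, hU.1] at hk
      omega
    obtain ⟨w, hwW, huw⟩ : ∃ w ∈ W, B u w ≠ 0 := by
      by_contra h
      push Not at h
      exact huW (mem_of_perp hQ (finrank_space hc) hWm fun w hw => by
        rw [QuadraticMap.polar_comm]; exact h w hw)
    have hv : Q (u - w) = -B u w := by
      rw [sub_eq_add_neg, QuadraticMap.map_add (⇑Q), QuadraticMap.map_neg, hU.2 u huU, hWs w hwW,
        QuadraticMap.polar_neg_right, zero_add, zero_add]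
    have hv0 : Q (u - w) ≠ 0 := by rw [hv]; exact neg_ne_zero.2 huw
    set R := Cfsg.reflectionMatrix (⇑Q) (u - w) with hR
    have hRv : ∀ x, R *ᵥ x = x - ((Q (u - w))⁻¹ * B (u - w) x) • (u - w) := fun x => by
      rw [hR, reflectionMatrix_mulVec, refl_apply]
    have hwu : R *ᵥ w = u := by
      rw [hRv, hv, QuadraticMap.polar_sub_left, polar_eq_zero_of_singular hWs hwW hwW, sub_zero,
        inv_neg, neg_mul, inv_mul_cancel₀ huw, neg_smul, one_smul, sub_neg_eq_add, add_sub_cancel]
    have hcom : ∀ x ∈ U ⊓ W, R *ᵥ x = x := fun x hx => by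
      rw [hRv, QuadraticMap.polar_sub_left, polar_eq_zero_of_singular hU.2 huU hx.1,
        polar_eq_zero_of_singular hWs hwW hx.2, sub_zero, mul_zero, zero_smul, sub_zero]
    have hM' : IsSim Q (R * M) μ := fun x => by
      rw [← mulVec_mulVec]
      exact (show Q (R *ᵥ (M *ᵥ x)) = Q (M *ᵥ x) from (reflIso Q (u - w) hv0).2 (M *ᵥ x) (M *ᵥ x)).trans
        (hM x)
    have himg : Cfsg.imageSubmodule (R * M) U = W.map (Matrix.toLin' R) := by
      rw [hWdef, Cfsg.imageSubmodule, Cfsg.imageSubmodule, Matrix.toLin'_mul, Submodule.map_comp]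
    -- the intersection grows by exactly one
    have hint : U ⊓ W.map (Matrix.toLin' R) = (U ⊓ W) ⊔ (F ∙ u) := by
      refine le_antisymm ?_ (sup_le ?_ ?_)
      · rintro x ⟨hxU, y, hy, rfl⟩
        rw [Matrix.toLin'_apply] at hxU ⊢
        set t := (Q (u - w))⁻¹ * B (u - w) y with ht
        have hxy : R *ᵥ y = y - t • (u - w) := hRv y
        rw [hxy] at hxU ⊢
        have hyw : y + t • w ∈ U ⊓ W := by
          refine ⟨?_, W.add_mem hy (W.smul_mem _ hwW)⟩
          have h' := U.add_mem hxU (U.smul_mem t huU)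
          rwa [show y - t • (u - w) + t • u = y + t • w by rw [smul_sub]; abel] at h'
        have : y - t • (u - w) = (y + t • w) + (-t) • u := by rw [smul_sub, neg_smul]; abel
        rw [this]
        exact Submodule.add_mem_sup hyw (Submodule.smul_mem _ _ (Submodule.mem_span_singleton_self u))
      · exact fun x hx => ⟨hx.1, x, hx.2, by rw [Matrix.toLin'_apply, hcom x hx]⟩
      · rw [Submodule.span_singleton_le_iff_mem]
        exact ⟨huU, w, hwW, by rw [Matrix.toLin'_apply, hwu]⟩
    have hdim : finrank F ↥(U ⊓ W.map (Matrix.toLin' R)) = finrank F ↥(U ⊓ W) + 1 := by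
      rw [hint]
      have h1 := Submodule.finrank_sup_add_finrank_inf_eq (U ⊓ W) (F ∙ u)
      have hu0 : u ≠ 0 := fun h => huW (h ▸ W.zero_mem)
      have hd : U ⊓ W ⊓ (F ∙ u) = ⊥ := by
        rw [eq_bot_iff]
        rintro x ⟨hx, hx'⟩
        obtain ⟨t, rfl⟩ := Submodule.mem_span_singleton.1 hx'
        by_cases ht : t = 0
        · simp [ht]
        · exact absurd (by simpa [ht] using W.smul_mem t⁻¹ hx.2) huW
      rw [hd, finrank_bot, finrank_span_singleton hu0] at h1
      omega
    have := ih (R * M) μ hμ hM' (by rw [himg, hdim]; omega)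
    rw [det_mul, hR, det_reflectionMatrix hv0] at this
    rw [pow_succ]
    linear_combination -this

include hQ hc hU in
theorem exists_codim (h2 : (2 : F) ≠ 0) {M : Matrix ι ι F} {μ : F} (hμ : μ ≠ 0) (hM : IsSim Q M μ) :
    Cfsg.SameParityClass U (Cfsg.imageSubmodule M U) ↔ M.det = μ ^ m := by
  have hle : finrank F ↥(U ⊓ Cfsg.imageSubmodule M U) ≤ m :=
    hU.1 ▸ Submodule.finrank_mono inf_le_left
  have hd := det_eq_of_codim hQ hc hU h2 (m - finrank F ↥(U ⊓ Cfsg.imageSubmodule M U)) M μ hμ hM
    (Nat.add_sub_cancel' hle)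
  rw [Cfsg.SameParityClass, hU.1, hd]
  refine ⟨fun he => by rw [he.neg_one_pow, one_mul], fun h => ?_⟩
  by_contra hne
  rw [(Nat.not_even_iff_odd.1 hne).neg_one_pow, neg_one_mul] at h
  exact mul_ne_zero h2 (pow_ne_zero m hμ) (by linear_combination -h)

include hQ hc hU in
/-- Every maximal totally singular subspace has dimension `m`. -/
theorem isMaxSing_of_isMax {W : Submodule F (ι → F)}
    (hW : Cfsg.IsMaxTotallySingular (⇑Q) W) : IsMaxSing Q m W := by
  refine ⟨?_, hW.1⟩
  set P := LinearMap.BilinForm.orthogonal (QuadraticMap.polarBilin Q) W with hP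
  have hsing : Cfsg.Geo.IsTotallySingularQuad (⇑Q) (W ⊔ (U ⊓ P)) := by
    intro x hx
    obtain ⟨y, hy, z, hz, rfl⟩ := Submodule.mem_sup.1 hx
    rw [QuadraticMap.map_add (⇑Q), hW.1 y hy, hU.2 z hz.1, zero_add, zero_add]
    exact hz.2 y hy
  have hle : U ⊓ P ≤ U ⊓ W := fun x hx =>
    ⟨hx.1, hW.2 _ hsing le_sup_left ▸ Submodule.mem_sup_right hx⟩
  have h1 := Submodule.finrank_mono hle
  -- `U ∩ W^⊥` is the orthogonal of `U + W`
  have hUperp : LinearMap.BilinForm.orthogonal (QuadraticMap.polarBilin Q) U = U :=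
    le_antisymm (fun x hx => mem_of_perp hQ (finrank_space hc) hU hx)
      fun x hx w hw => polar_eq_zero_of_singular hU.2 hw hx
  have hUP : U ⊓ P = LinearMap.BilinForm.orthogonal (QuadraticMap.polarBilin Q) (U ⊔ W) := by
    refine le_antisymm ?_ (le_inf ?_ ?_)
    · rintro x ⟨hxU, hxP⟩ y hy
      obtain ⟨a, ha, b, hb, rfl⟩ := Submodule.mem_sup.1 hy
      show B (a + b) x = 0
      rw [QuadraticMap.polar_add_left, show B b x = 0 from hxP b hb,
        polar_eq_zero_of_singular hU.2 ha hxU, add_zero]
    · exact le_of_le_of_eq (LinearMap.BilinForm.orthogonal_le le_sup_left) hUperp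
    · exact LinearMap.BilinForm.orthogonal_le le_sup_right
  rw [hUP, LinearMap.BilinForm.finrank_orthogonal hQ, finrank_space hc] at h1
  have h2 := Submodule.finrank_sup_add_finrank_inf_eq U W
  have h3 := Submodule.finrank_le (U ⊔ W)
  rw [finrank_space hc] at h3
  have h4 : finrank F W ≤ m := by
    have hWP : W ≤ P := fun x hx w hw => polar_eq_zero_of_singular hW.1 hw hx
    have := Submodule.finrank_mono hWP
    rw [hP, LinearMap.BilinForm.finrank_orthogonal hQ, finrank_space hc] at this
    omega
  rw [hU.1] at h2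
  omega

include hQ hc hU in
/-- A similitude preserves the singular families iff its determinant is `μ ^ m`. -/
theorem preserves_iff (h2 : (2 : F) ≠ 0) {M : Matrix ι ι F} {μ : F} (hμ : μ ≠ 0)
    (hM : IsSim Q M μ) : Cfsg.PreservesSingularClasses (⇑Q) M ↔ M.det = μ ^ m := by
  constructor
  · intro h
    refine (exists_codim hQ hc hU h2 hμ hM).1 (h U ⟨hU.2, fun W hW hUW => ?_⟩)
    refine le_antisymm (fun x hx => ?_) hUW
    exact mem_of_perp hQ (finrank_space hc) hU fun w hw =>
      polar_eq_zero_of_singular hW (hUW hw) hx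
  · intro h W hW
    exact (exists_codim hQ hc (isMaxSing_of_isMax hQ hc hU hW) h2 hμ hM).2 h

end CfsgLib.POmegaDiag
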