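import Cfsg.Agent.OutPOmega.Shapes

/-!
# The outer group of the similitudes, abstractly

Scalars `N`, isometries `K` and similitudes `L`, with the class map `o`, the multiplier class `cl`,
the sign `e`, and the pair of characters `p` of the isometries.
-/

set_option autoImplicit false
set_option linter.unusedSectionVars false

namespace CfsgLib.POmegaDiag

open CfsgLib.OutPOmega

variable {L O K N : Type*} [Group L] [Group O] [Group K] [Group N]

/-- The input: the classes of isometries are seen by `p`, and `g` is an outer involution. -/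
structure SimData (o : L →* O) (i : K →* L) (s : N →* L) (cl e : L →* ℤˣ) (p : K →* ℤˣ × ℤˣ)
    (g : L) : Prop where
  dec : ∀ x, cl x = 1 → ∃ t h, x = s t * i h
  scal : ∀ t, o (s t) = 1
  cls_eq : ∀ h h', p h = p h' → o (i h) = o (i h')
  cls_ne : ∀ h, p h ≠ 1 → o (i h) ≠ 1
  sgn_scal : ∀ t, e (s t) = 1
  sgn_iso : ∀ h, e (i h) = (p h).1
  cl_iso : ∀ h, cl (i h) = 1
  ker : ∀ x, o x = 1 → cl x = 1
  cl_g : cl g = -1
  g_sq : o (g * g) = 1
  refl : ∃ r1 r2, p r1 = (-1, 1) ∧ p r2 = (-1, -1) ∧
    o g * o (i r1) * (o g)⁻¹ = o (i r2) ∧ o g * o (i r2) * (o g)⁻¹ = o (i r1)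

namespace SimData

variable {o : L →* O} {i : K →* L} {s : N →* L} {cl e : L →* ℤˣ} {p : K →* ℤˣ × ℤˣ} {g : L}
  (D : SimData o i s cl e p g)

include D in
theorem out_iso (t : N) (h : K) : o (s t * i h) = o (i h) := by rw [map_mul, D.scal, one_mul]

include D in
theorem cases_iso (r1 r2 : K) (e1 : p r1 = (-1, 1)) (e2 : p r2 = (-1, -1)) (h : K) :
    o (i h) = 1 ∨ o (i h) = o (i r1) ∨ o (i h) = o (i r2) ∨ o (i h) = o (i r1) * o (i r2) := by
  obtain ⟨a, b, hab⟩ : ∃ a b, p h = (a, b) := ⟨_, _, rfl⟩
  rcases Int.units_eq_one_or a with rfl | rfl <;> rcases Int.units_eq_one_or b with rfl | rfl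
  · left
    rw [D.cls_eq h 1 (hab.trans (map_one p).symm), map_one, map_one]
  · right; right; right
    rw [← map_mul, ← map_mul]
    exact D.cls_eq _ _ (hab.trans (by rw [map_mul, e1, e2]; rfl))
  · right; left
    exact D.cls_eq _ _ (hab.trans e1.symm)
  · right; right; left
    exact D.cls_eq _ _ (hab.trans e2.symm)

include D in
/-- The skeleton. -/
theorem exists_skeleton :
    ∃ S : Skeleton ↥o.range Unit 1, S.D = o.rangeRestrict g ∧ S.D * S.D = 1 ∧ S.Φ = 1 ∧
      S.R1 * S.R2 ≠ 1 ∧ ∃ r1 r2, p r1 = (-1, 1) ∧ p r2 = (-1, -1) ∧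
        S.R1 = o.rangeRestrict (i r1) ∧ S.R2 = o.rangeRestrict (i r2) := by
  obtain ⟨r1, r2, e1, e2, c1, c2⟩ := D.refl
  have hf : Function.Surjective o.rangeRestrict := o.rangeRestrict_surjective
  have hker : o.rangeRestrict.ker ≤ cl.ker := fun x hx => by
    rw [MonoidHom.ker_rangeRestrict] at hx
    exact D.ker x hx
  have hcls : ∀ x, o.rangeRestrict.liftOfSurjective hf ⟨cl, hker⟩ (o.rangeRestrict x) = cl x :=
    fun x => o.rangeRestrict.liftOfRightInverse_comp_apply _ (Function.rightInverse_surjInv hf) _ x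
  have hsq : ∀ h, o.rangeRestrict (i h) * o.rangeRestrict (i h) = 1 := fun h => by
    refine Subtype.ext ?_
    show o (i h) * o (i h) = 1
    rw [← map_mul, ← map_mul, D.cls_eq (h * h) 1 (by
      rw [map_mul, map_one]; exact Prod.ext (Int.units_mul_self _) (Int.units_mul_self _)),
      map_one, map_one]
  have h12 : o (i r1) * o (i r2) ≠ 1 := by
    rw [← map_mul, ← map_mul]
    exact D.cls_ne _ (by rw [map_mul, e1, e2]; decide)
  refine ⟨
    { fld := 1
      cls := o.rangeRestrict.liftOfSurjective hf ⟨cl, hker⟩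
      R1 := o.rangeRestrict (i r1)
      R2 := o.rangeRestrict (i r2)
      D := o.rangeRestrict g
      Φ := 1
      fld_gen := fun _ => ⟨0, Subsingleton.elim _ _⟩
      ord_fld := orderOf_one
      fld_D := rfl
      cls_D := (hcls g).trans D.cl_g
      cls_Φ := map_one _
      fld_R1 := rfl
      fld_R2 := rfl
      cls_R1 := (hcls _).trans (D.cl_iso _)
      cls_R2 := (hcls _).trans (D.cl_iso _)
      sq_R1 := hsq _
      sq_R2 := hsq _
      comm := ?_
      ker := ?_
      swap := Subtype.ext c1
      swap' := Subtype.ext c2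
      fix1 := Commute.one_left _
      fix2 := Commute.one_left _ }, rfl, ?_, rfl, ?_, r1, r2, e1, e2, rfl, rfl⟩
  · refine Subtype.ext ?_
    show o (i r1) * o (i r2) = o (i r2) * o (i r1)
    rw [← map_mul, ← map_mul, ← map_mul, ← map_mul]
    exact D.cls_eq _ _ (by rw [map_mul, map_mul, mul_comm])
  · intro y _ hy
    obtain ⟨x, rfl⟩ := hf y
    rw [hcls] at hy
    obtain ⟨t, h, rfl⟩ := D.dec _ hy
    simp only [Subtype.ext_iff, MonoidHom.coe_rangeRestrict, Subgroup.coe_one, Subgroup.coe_mul,
      D.out_iso]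
    exact D.cases_iso r1 r2 e1 e2 h
  · refine Subtype.ext ?_
    show o g * o g = 1
    rw [← map_mul]
    exact D.g_sq
  · exact fun h => h12 (congrArg Subtype.val h)

include D in
/-- All similitudes: dihedral of order eight. -/
theorem nonempty_dihedral : Nonempty (↥o.range ≃* DihedralGroup 4) := by
  obtain ⟨S, -, -, hΦ, h12, -⟩ := D.exists_skeleton
  obtain ⟨E⟩ := S.dihedral h12 (Or.inl (by rw [hΦ, one_pow]))
  haveI : Unique (Multiplicative (ZMod 1)) :=
    { default := 1, uniq := fun a => Subsingleton.elim _ _ }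
  exact ⟨E.trans MulEquiv.prodUnique⟩

include D in
/-- The sign kernel: order four; cyclic iff `g` has sign `-1`. -/
theorem ker_shape :
    (e g = -1 → Nonempty (↥(e.ker.map o.rangeRestrict) ≃* Multiplicative (ZMod 4))) ∧
    (e g = 1 → Nonempty (↥(e.ker.map o.rangeRestrict) ≃* Multiplicative (ZMod 2 × ZMod 2))) := by
  classical
  obtain ⟨S, hD, hD2, -, hz1, r1, r2, e1, e2, hR1, hR2⟩ := D.exists_skeleton
  have hcl : S.cls (o.rangeRestrict g) = -1 := by rw [← hD]; exact S.cls_D
  have her : e (i (r1 * r2)) = 1 := by rw [D.sgn_iso, map_mul, e1, e2]; rfl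
  have hzf : o.rangeRestrict (i (r1 * r2)) = S.R1 * S.R2 := by rw [map_mul, map_mul, hR1, hR2]
  obtain ⟨a, b, hb, hba, ha, haz⟩ : ∃ (a : ↥o.range) (b : L), e b = 1 ∧ o.rangeRestrict b = a ∧
      S.cls a = -1 ∧ (if e g = 1 then a * a = 1 else a * a = S.R1 * S.R2) := by
    by_cases h : e g = 1
    · exact ⟨S.D, g, h, hD.symm, S.cls_D, by rw [if_pos h]; exact hD2⟩
    · refine ⟨S.D * S.R1, g * i r1, ?_, ?_, ?_, ?_⟩
      · rw [map_mul, (Int.units_eq_one_or _).resolve_left h, D.sgn_iso, e1]; rfl
      · rw [map_mul, hD, hR1]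
      · rw [map_mul, S.cls_D, S.cls_R1, mul_one]
      · rw [if_neg h]
        have hs := S.swap
        rw [inv_eq_of_mul_eq_one_right hD2] at hs
        rw [← mul_assoc, hs, S.comm.eq]
  set z := S.R1 * S.R2 with hz
  set I : Subgroup ↥o.range := e.ker.map o.rangeRestrict
  have hzI : z ∈ I := ⟨_, her, hzf⟩
  have haI : a ∈ I := ⟨b, hb, hba⟩
  have hz2 : z * z = 1 := S.sq12
  have hcz : S.cls z = 1 := by rw [hz, map_mul, S.cls_R1, S.cls_R2, one_mul]
  have hmem : ∀ y ∈ I, y = 1 ∨ y = z ∨ y = a ∨ y = a * z := by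
    have hone : ∀ x : L, e x = 1 → cl x = 1 →
        o.rangeRestrict x = 1 ∨ o.rangeRestrict x = z := by
      intro x he hs
      obtain ⟨t, h, rfl⟩ := D.dec x hs
      rw [map_mul, D.sgn_scal, one_mul, D.sgn_iso] at he
      rcases Int.units_eq_one_or (p h).2 with e' | e'
      · left
        refine Subtype.ext ((D.out_iso t h).trans ?_)
        rw [D.cls_eq h 1 ((Prod.ext he e').trans (map_one p).symm), map_one, map_one]
        rfl
      · right
        refine (Subtype.ext ?_).trans hzf
        exact (D.out_iso t h).trans (D.cls_eq _ _ ((Prod.ext he e').trans (by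
          rw [map_mul, e1, e2]; try rfl)))
    rintro _ ⟨x, hx, rfl⟩
    rcases Int.units_eq_one_or (cl x) with hs | hs
    · rcases hone x hx hs with h | h
      · exact Or.inl h
      · exact Or.inr (Or.inl h)
    · have hsb : cl b = -1 := by
        refine (Int.units_eq_one_or _).resolve_left fun hs' => ?_
        rcases hone b hb hs' with h | h <;> rw [← hba, h] at ha
        · rw [map_one] at ha; exact absurd ha (by decide)
        · rw [hcz] at ha; exact absurd ha (by decide)
      have := hone (b⁻¹ * x) (by rw [map_mul, map_inv, hb, MonoidHom.mem_ker.1 hx]; rfl) (by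
        rw [map_mul, map_inv, hsb, hs]; rfl)
      rw [map_mul, map_inv, inv_mul_eq_one, inv_mul_eq_iff_eq_mul, hba] at this
      rcases this with h | h
      · exact Or.inr (Or.inr (Or.inl h.symm))
      · exact Or.inr (Or.inr (Or.inr h))
  have ha1 : a ≠ 1 := fun h => by rw [h, map_one] at ha; exact absurd ha (by decide)
  have haz1 : a ≠ z := fun h => by rw [h, hcz] at ha; exact absurd ha (by decide)
  have hazz : a * z ≠ 1 := fun h => haz1 (mul_right_cancel (h.trans hz2.symm))
  have haz' : a * z ≠ z := fun h => ha1 (mul_right_cancel (h.trans (one_mul z).symm))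
  have haz'' : a * z ≠ a := fun h => hz1 (mul_left_cancel (h.trans (mul_one a).symm))
  have hset : (I : Set ↥o.range) = {1, z, a, a * z} := by
    ext y
    refine ⟨hmem y, ?_⟩
    rintro (rfl | rfl | rfl | rfl)
    exacts [one_mem I, hzI, haI, mul_mem haI hzI]
  have hcard : Nat.card I = 4 := by
    rw [show Nat.card I = (I : Set ↥o.range).ncard from
        Nat.card_coe_set_eq (I : Set ↥o.range), hset,
      Set.ncard_insert_of_notMem (by
        simp only [Set.mem_insert_iff, Set.mem_singleton_iff, not_or]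
        exact ⟨Ne.symm hz1, Ne.symm ha1, Ne.symm hazz⟩),
      Set.ncard_insert_of_notMem (by
        simp only [Set.mem_insert_iff, Set.mem_singleton_iff, not_or]
        exact ⟨Ne.symm haz1, Ne.symm haz'⟩),
      Set.ncard_pair (Ne.symm haz'')]
  have : Finite I := Nat.finite_of_card_ne_zero (by rw [hcard]; norm_num)
  refine ⟨fun h => ?_, fun h => ?_⟩
  · have haa : a * a = z := by
      rw [if_neg (by rw [h]; decide)] at haz
      exact haz
    have hord : orderOf (⟨a, haI⟩ : I) = 4 := by
      refine orderOf_eq_prime_pow (p := 2) (n := 1) ?_ ?_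
      · rw [pow_one, sq, Subtype.ext_iff]; exact fun e' => hz1 (haa.symm.trans e')
      · rw [show 2 ^ (1 + 1) = 2 * 2 by norm_num, pow_mul, sq, sq, Subtype.ext_iff]
        show a * a * (a * a) = 1
        rw [haa, hz2]
    haveI : IsCyclic I := isCyclic_of_orderOf_eq_card ⟨a, haI⟩ (hord.trans hcard.symm)
    exact ⟨mulEquivOfCyclicCardEq (by rw [hcard]; simp)⟩
  · have haa : a * a = 1 := by
      rw [if_pos h] at haz
      exact haz
    have hzc : a * z = z * a := by
      rcases hmem (z * a) (mul_mem hzI haI) with e' | e' | e' | e'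
      · exact absurd (mul_left_cancel (e'.trans hz2.symm)) haz1
      · exact absurd (mul_left_cancel (e'.trans (mul_one z).symm)) ha1
      · exact absurd (mul_right_cancel (e'.trans (one_mul a).symm)) hz1
      · exact e'.symm
    haveI : IsKleinFour I := ⟨hcard, by
      haveI : Nontrivial I := ⟨⟨⟨a, haI⟩, 1, fun e' => ha1 (congrArg Subtype.val e')⟩⟩
      refine Monoid.exponent_eq_prime_iff Nat.prime_two |>.2 fun y hy => orderOf_eq_prime ?_ hy
      rw [sq]
      refine Subtype.ext ?_
      show (y : ↥o.range) * y = 1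
      rcases hmem y y.2 with e' | e' | e' | e' <;> rw [e']
      · exact one_mul 1
      · exact hz2
      · exact haa
      · calc a * z * (a * z) = a * (z * a) * z := by group
          _ = a * (a * z) * z := by rw [← hzc]
          _ = a * a * (z * z) := by group
          _ = 1 := by rw [haa, hz2, one_mul]⟩
    haveI : IsKleinFour (Multiplicative (ZMod 2 × ZMod 2)) := ⟨by simp,
      (Monoid.exponent_eq_prime_iff Nat.prime_two).2 (by
        intro y hy; exact orderOf_eq_prime (by revert y; decide) hy)⟩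
    haveI := Fintype.ofFinite I
    have hc4 : Fintype.card I = Fintype.card (Multiplicative (ZMod 2 × ZMod 2)) := by
      rw [← Nat.card_eq_fintype_card, hcard]; simp
    exact ⟨IsKleinFour.mulEquiv
      ((Equiv.swap 1 ((Fintype.equivOfCardEq hc4).symm 1)).trans (Fintype.equivOfCardEq hc4))
      (by simp)⟩

end SimData

end CfsgLib.POmegaDiag
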