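import Cfsg.Agent.OutPOmega.Std
import Cfsg.Agent.AutPOmega.Group
import Cfsg.Agent.POmegaDiag.Shape

/-!
# `PGO`, `PSO` and `Inndiag` of `PΩ(Q)` modulo inner automorphisms, even dimension, odd characteristic
-/

set_option autoImplicit false
set_option linter.unusedSectionVars false
set_option maxHeartbeats 1000000

namespace CfsgLib.POmegaDiag

open Matrix Module CfsgLib.Spinor CfsgLib.Forms CfsgLib.Forms4 CfsgLib.OutPOmega

/-- Transfer of a homomorphism along a map. -/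
theorem exists_hom_of_map {G A X : Type*} [Group G] [Group A] [Group X] (θ : G →* A)
    (H : Subgroup G) (π : H →* X) (N : Subgroup A) (hN : ∀ x : H, θ x.1 ∈ N ↔ π x = 1)
    (hπ : Function.Surjective π) :
    ∃ φ : ↥(H.map θ) →* X, Function.Surjective φ ∧ φ.ker = N.subgroupOf (H.map θ) := by
  let f : H →* H.map θ := θ.subgroupMap H
  have hf : Function.Surjective f := θ.subgroupMap_surjective H
  have hker : f.ker ≤ π.ker := fun x hx => by
    rw [MonoidHom.mem_ker] at hx ⊢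
    refine (hN x).1 ?_
    rw [show θ x.1 = 1 from congrArg Subtype.val hx]
    exact one_mem N
  refine ⟨f.liftOfSurjective hf ⟨π, hker⟩, ?_, ?_⟩
  · intro y
    obtain ⟨x, rfl⟩ := hπ y
    exact ⟨f x, f.liftOfRightInverse_comp_apply _ (Function.rightInverse_surjInv hf) _ x⟩
  · ext y
    obtain ⟨x, rfl⟩ := hf y
    rw [MonoidHom.mem_ker, MonoidHom.liftOfSurjective, MonoidHom.liftOfRightInverse_comp_apply,
      Subgroup.mem_subgroupOf]
    exact (hN x).symm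

/-- Multiplication of signs into the additive Klein group. -/
noncomputable def unitsKlein : ℤˣ × ℤˣ ≃* Multiplicative (ZMod 2 × ZMod 2) :=
  haveI : IsCyclic ℤˣ := ⟨⟨-1, fun x => by
    rcases Int.units_eq_one_or x with rfl | rfl
    · exact ⟨0, zpow_zero _⟩
    · exact ⟨1, zpow_one _⟩⟩⟩
  let e : ℤˣ ≃* Multiplicative (ZMod 2) := mulEquivOfCyclicCardEq (by simp)
  (MulEquiv.prodCongr e e).trans
    (MulEquiv.prodMultiplicative (ZMod 2) (ZMod 2)).symm

variable {F : Type*} [Field F] [Fintype F] {ι : Type} [Fintype ι] [DecidableEq ι]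
  {Q : QuadraticForm F (ι → F)}

variable (Q) in
/-- The linear semisimilarities: the similitudes. -/
abbrev Lin : Subgroup ↥(semi ⇑Q) := (fldHom ⇑Q).ker

variable (Q) in
/-- The action on `PΩ`. -/
def thetaLin : ↥(Lin Q) →* MulAut (Cfsg.POmega F ⇑Q) := (theta ⇑Q).comp (Lin Q).subtype

theorem thetaLin_apply (x : ↥(Lin Q)) : thetaLin Q x = theta ⇑Q x.1 := rfl

theorem lin_right (x : ↥(Lin Q)) : x.1.1.right = 1 := x.2

theorem lin_isSim (x : ↥(Lin Q)) (v : ι → F) :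
    Q (x.1.1.left.1 *ᵥ v) = (mult x.1 : F) * Q v := by
  have := mult_spec x.1 v
  rw [lin_right] at this
  simpa [act, lin_right] using this

theorem induced_lin (x : ↥(Lin Q)) :
    Cfsg.IsInducedBySemilinearPOmega (⇑Q) x.1.1.left (RingEquiv.refl F) (thetaLin Q x) := by
  have h : Cfsg.IsSemisimilarityPair (⇑Q) x.1.1.left (RingEquiv.refl F) :=
    ⟨mult x.1, fun v => lin_isSim x v⟩
  refine (isInduced_iff h _).2 ?_
  rw [thetaLin_apply]
  congr 1
  exact Subtype.ext (SemidirectProduct.ext rfl (lin_right x))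

theorem exists_lin {g : GL ι F} (hg : g ∈ Cfsg.Geo.quadSimilarityGroup (F := F) (⇑Q))
    {β : MulAut (Cfsg.POmega F ⇑Q)}
    (hβ : Cfsg.IsInducedBySemilinearPOmega (⇑Q) g (RingEquiv.refl F) β) :
    ∃ x : ↥(Lin Q), x.1.1.left = g ∧ β = thetaLin Q x := by
  obtain ⟨c, hc⟩ := hg
  have h : Cfsg.IsSemisimilarityPair (⇑Q) g (RingEquiv.refl F) := ⟨c, hc⟩
  exact ⟨⟨⟨⟨g, RingEquiv.refl F⟩, h⟩, rfl⟩, rfl, (isInduced_iff h β).1 hβ⟩

variable (Q) in
theorem pgoAut_eq : Cfsg.pgoAut F ⇑Q = (⊤ : Subgroup ↥(Lin Q)).map (thetaLin Q) := by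
  refine le_antisymm ((Subgroup.closure_le _).2 ?_) ?_
  · rintro β ⟨g, hg, hβ⟩
    obtain ⟨x, -, rfl⟩ := exists_lin hg hβ
    exact ⟨x, trivial, rfl⟩
  · rintro _ ⟨x, -, rfl⟩
    exact Subgroup.subset_closure ⟨x.1.1.left, ⟨mult x.1, lin_isSim x⟩, induced_lin x⟩

variable [DecidableEq F] (h2 : (2 : F) ≠ 0) (hQ : (QuadraticMap.polarBilin Q).Nondegenerate)
  (hn : 5 ≤ Fintype.card ι) (P : TwoPairs Q) {m : ℕ} (hc : Fintype.card ι = 2 * m)

include hQ hc in
theorem sdet_cases (x : ↥(Lin Q)) :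
    sdet x.1 = (mult x.1 : F) ^ m ∨ sdet x.1 = -((mult x.1 : F) ^ m) := by
  refine mul_self_eq_mul_self_iff.1 ?_
  rw [sdet_sq hQ x.2, hc, ← pow_add, two_mul]

include h2 hQ hc P in
/-- The sign `det / μ ^ m`. -/
noncomputable def eps : ↥(Lin Q) →* ℤˣ :=
  MonoidHom.mk' (fun x => if sdet x.1 = (mult x.1 : F) ^ m then 1 else -1) fun x y => by
    have hne : ∀ z : F, z ≠ 0 → -z ≠ z := fun z hz e =>
      mul_ne_zero h2 hz (by linear_combination -e)
    have hd : sdet (x * y).1 = sdet x.1 * sdet y.1 := by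
      rw [Subgroup.coe_mul, sdet_mul, lin_right]; rfl
    have hμ : (mult (x * y).1 : F) = mult x.1 * mult y.1 := by
      rw [Subgroup.coe_mul, mult_mul P, Units.val_mul, lin_right]; rfl
    rw [hd, hμ, mul_pow]
    have h0 : ∀ z : ↥(Lin Q), (mult z.1 : F) ^ m ≠ 0 := fun z => pow_ne_zero _ (Units.ne_zero _)
    rcases sdet_cases hQ hc x with a | a <;> rcases sdet_cases hQ hc y with b | b <;>
      rw [a, b] <;>
      simp [hne _ (h0 x), hne _ (h0 y), hne _ (mul_ne_zero (h0 x) (h0 y))]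

theorem eps_eq_one_iff (x : ↥(Lin Q)) :
    eps h2 hQ P hc x = 1 ↔ sdet x.1 = (mult x.1 : F) ^ m := by
  show (if _ then (1 : ℤˣ) else -1) = 1 ↔ _
  split_ifs with h <;> simp [h]

include h2 hQ hc in
/-- Multiplier class and sign. -/
noncomputable def inv : ↥(Lin Q) →* ℤˣ × ℤˣ :=
  ((sqHom P).comp (Lin Q).subtype).prod (eps h2 hQ P hc)

theorem inv_apply (x : ↥(Lin Q)) : inv h2 hQ P hc x = (sqHom P x.1, eps h2 hQ P hc x) := rfl

variable (Q) in
/-- An isometry as a similitude. -/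
def isoLin : ↥(Cfsg.isometryGroup F ⇑Q) →* ↥(Lin Q) :=
  (isoEmb ⇑Q).codRestrict _ fun _ => rfl

variable (Q) in
/-- A scalar as a similitude. -/
def scalarLin : Fˣ →* ↥(Lin Q) := (scalarEmb Q).codRestrict _ fun _ => rfl

theorem eps_scalar (t : Fˣ) : eps h2 hQ P hc (scalarLin Q t) = 1 := by
  rw [eps_eq_one_iff]
  show sdet (scalarEmb Q t) = _
  rw [sdet_scalarEmb, show mult (scalarLin Q t).1 = t * t from mult_scalarEmb P t, Units.val_mul,
    hc, ← pow_two, ← pow_mul]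

theorem eps_iso (h : ↥(Cfsg.isometryGroup F ⇑Q)) :
    eps h2 hQ P hc (isoLin Q h) = (pq h2 hQ h).1 := by
  have e := eps_eq_one_iff h2 hQ P hc (isoLin Q h)
  rw [show mult (isoLin Q h).1 = 1 from mult_isoEmb P h, Units.val_one, one_pow,
    show sdet (isoLin Q h).1 = (mat Q h).det from sdet_isoEmb h, ← parity_one_iff h2 hQ h] at e
  rcases Int.units_eq_one_or (eps h2 hQ P hc (isoLin Q h)) with a | a <;>
    rcases Int.units_eq_one_or (pq h2 hQ h).1 with b | b <;> rw [a, b] at e ⊢ <;> simp at e ⊢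

theorem sq_iso (h : ↥(Cfsg.isometryGroup F ⇑Q)) : sqHom P (isoLin Q h).1 = 1 := sqHom_isoEmb P h

theorem sq_scalar (t : Fˣ) : sqHom P (scalarLin Q t).1 = 1 := by
  ext
  rw [sqHom_coe, show mult (scalarLin Q t).1 = t * t from mult_scalarEmb P t, Units.val_mul,
    map_mul, ← pow_two, quadraticChar_sq_one (Units.ne_zero t), Units.val_one]

include h2 in
theorem exists_decomp {x : ↥(Lin Q)} (hx : sqHom P x.1 = 1) :
    ∃ t h, x = scalarLin Q t * isoLin Q h := by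
  obtain ⟨t, ht⟩ := exists_sqrt_of_sqHom hx
  obtain ⟨h, hh⟩ := exists_iso_of_mult P x.2 ht
  exact ⟨t, h, Subtype.ext hh⟩

variable (Q) in
/-- The class modulo inner automorphisms. -/
def outLin : ↥(Lin Q) →* Cfsg.Out (Cfsg.POmega F ⇑Q) := (outHom ⇑Q).comp (Lin Q).subtype

theorem mem_inn_iff (x : ↥(Lin Q)) :
    thetaLin Q x ∈ Cfsg.Inn (Cfsg.POmega F ⇑Q) ↔ outLin Q x = 1 :=
  (QuotientGroup.eq_one_iff _).symm

include hQ hn P in
theorem outLin_scalar (t : Fˣ) : outLin Q (scalarLin Q t) = 1 :=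
  (outHom_eq_one_iff hQ hn P _).2 ⟨t, 1, by rw [OneMemClass.coe_one, map_one, mul_one]; rfl⟩

include h2 hQ hn P hc in
theorem inv_eq_one_of_inn {x : ↥(Lin Q)} (hx : outLin Q x = 1) : inv h2 hQ P hc x = 1 := by
  obtain ⟨t, s, hs⟩ := (outHom_eq_one_iff hQ hn P _).1 hx
  have hx' : x = scalarLin Q t * isoLin Q s.1 := Subtype.ext hs
  rw [hx', map_mul, inv_apply, inv_apply, sq_scalar, eps_scalar, sq_iso, eps_iso,
    (pq_eq_one_iff h2 hQ _).2 s.2]
  exact one_mul 1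

theorem psoAut_eq :
    Cfsg.psoAut F ⇑Q = (inv h2 hQ P hc).ker.map (thetaLin Q) := by
  refine le_antisymm ((Subgroup.closure_le _).2 ?_) ?_
  · rintro β ⟨g, hg, hβ⟩
    obtain ⟨hiso, hdet⟩ := hg
    refine ⟨isoLin Q ⟨g, hiso⟩, ?_, ?_⟩
    · rw [SetLike.mem_coe, MonoidHom.mem_ker, inv_apply, sq_iso, eps_iso]
      refine Prod.ext rfl ((parity_one_iff h2 hQ _).2 ?_)
      exact congrArg Units.val hdet
    · have h : Cfsg.IsSemisimilarityPair (⇑Q) g (RingEquiv.refl F) :=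
        ⟨1, fun v => by rw [Units.val_one, one_mul]; exact hiso v v⟩
      rw [(isInduced_iff h β).1 hβ]
      rfl
  · rintro _ ⟨x, hx, rfl⟩
    rw [SetLike.mem_coe, MonoidHom.mem_ker, inv_apply, Prod.mk_eq_one] at hx
    obtain ⟨t, h, rfl⟩ := exists_decomp h2 P hx.1
    have he := hx.2
    rw [map_mul, eps_scalar, one_mul, eps_iso, parity_one_iff h2 hQ] at he
    refine Subgroup.subset_closure ⟨h.1, ⟨h.2, Units.ext he⟩, ?_⟩
    rw [map_mul, show thetaLin Q (scalarLin Q t) = 1 from theta_scalarEmb t, one_mul]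
    exact induced_lin (isoLin Q h)

/-- A subgroup generated by class preserving similitudes is the kernel of the sign. -/
theorem inndiag_eq (C : GL ι F → Prop)
    (hC : ∀ x : ↥(Lin Q), C x.1.1.left ↔ eps h2 hQ P hc x = 1) :
    Cfsg.autSubgroupOf (fun β : MulAut (Cfsg.POmega F ⇑Q) =>
      ∃ g : GL ι F, g ∈ Cfsg.Geo.quadSimilarityGroup (F := F) (⇑Q) ∧ C g ∧
        Cfsg.IsInducedBySemilinearPOmega (⇑Q) g (RingEquiv.refl F) β) =
      (eps h2 hQ P hc).ker.map (thetaLin Q) := by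
  refine le_antisymm ((Subgroup.closure_le _).2 ?_) ?_
  · rintro β ⟨g, hg, hC', hβ⟩
    obtain ⟨x, rfl, rfl⟩ := exists_lin hg hβ
    exact ⟨x, (hC x).1 hC', rfl⟩
  · rintro _ ⟨x, hx, rfl⟩
    exact Subgroup.subset_closure ⟨x.1.1.left, ⟨mult x.1, lin_isSim x⟩, (hC x).2 hx, induced_lin x⟩

include h2 hQ hn P hc in
/-- `PGO / PSO` is a four group. -/
theorem pgo_mod_pso (d : ↥(Lin Q)) (hd : sqHom P d.1 = -1) :
    ∃ φ : ↥(Cfsg.pgoAut F ⇑Q) →* Multiplicative (ZMod 2 × ZMod 2), Function.Surjective φ ∧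
      φ.ker = (Cfsg.psoAut F ⇑Q).subgroupOf (Cfsg.pgoAut F ⇑Q) := by
  rw [pgoAut_eq Q, psoAut_eq h2 hQ P hc]
  refine exists_hom_of_map (thetaLin Q) ⊤
    ((unitsKlein.toMonoidHom.comp (inv h2 hQ P hc)).comp (Subgroup.subtype _)) _ (fun x => ?_) ?_
  · rw [MonoidHom.comp_apply, MonoidHom.comp_apply, MulEquiv.coe_toMonoidHom, map_eq_one_iff _
      unitsKlein.injective]
    constructor
    · rintro ⟨y, hy, hyx⟩
      have hone : outLin Q (y⁻¹ * x.1) = 1 := (mem_inn_iff _).1 (by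
        rw [map_mul, map_inv, hyx, inv_mul_cancel]; exact one_mem _)
      have := inv_eq_one_of_inn h2 hQ hn P hc hone
      rw [map_mul, map_inv, MonoidHom.mem_ker.1 hy, inv_one, one_mul] at this
      exact this
    · intro h
      exact ⟨x.1, h, rfl⟩
  · obtain ⟨v, w, hv, hw, e1, -⟩ := exists_refls h2 hQ hn
    have hr : inv h2 hQ P hc (isoLin Q (reflIso Q v hv)) = (1, -1) := by
      rw [inv_apply, sq_iso, eps_iso, e1]
    intro y
    obtain ⟨⟨a, b⟩, rfl⟩ := unitsKlein.surjective y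
    suffices ∃ x, inv h2 hQ P hc x = (a, b) by
      obtain ⟨x, hx⟩ := this
      exact ⟨⟨x, trivial⟩, by
        show unitsKlein (inv h2 hQ P hc x) = _
        rw [hx]⟩
    have hdi : inv h2 hQ P hc d = (-1, eps h2 hQ P hc d) := Prod.ext hd rfl
    have hdr : inv h2 hQ P hc (d * isoLin Q (reflIso Q v hv)) = (-1, -eps h2 hQ P hc d) := by
      rw [map_mul, hr, hdi, Prod.mk_mul_mk, mul_one, mul_neg, mul_one]
    rcases Int.units_eq_one_or a with rfl | rfl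
    · rcases Int.units_eq_one_or b with rfl | rfl
      · exact ⟨1, map_one _⟩
      · exact ⟨_, hr⟩
    · by_cases hb : b = eps h2 hQ P hc d
      · exact ⟨d, by rw [hdi, hb]⟩
      · refine ⟨_, hdr.trans (congrArg _ ?_)⟩
        rw [Int.units_ne_iff_eq_neg.1 hb]

/-- The nontrivial class of `PSO`. -/
noncomputable def zCls : Cfsg.Out (Cfsg.POmega F ⇑Q) :=
  outLin Q (isoLin Q (reflIso Q (exists_refls h2 hQ hn).choose
      (exists_refls h2 hQ hn).choose_spec.choose_spec.choose *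
    reflIso Q (exists_refls h2 hQ hn).choose_spec.choose
      (exists_refls h2 hQ hn).choose_spec.choose_spec.choose_spec.choose))

theorem pq_zCls : ∃ h, pq h2 hQ h = (1, -1) ∧ zCls h2 hQ hn = outLin Q (isoLin Q h) := by
  refine ⟨_, ?_, rfl⟩
  obtain ⟨a, b⟩ := (exists_refls h2 hQ hn).choose_spec.choose_spec.choose_spec.choose_spec
  rw [map_mul, a, b]
  rfl

include h2 hQ hn P hc in
theorem out_pso_cases {x : ↥(Lin Q)} (hx : inv h2 hQ P hc x = 1) :
    outLin Q x = 1 ∨ outLin Q x = zCls h2 hQ hn := by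
  rw [inv_apply, Prod.mk_eq_one] at hx
  obtain ⟨t, h, rfl⟩ := exists_decomp h2 P hx.1
  have he := hx.2
  rw [map_mul, eps_scalar, one_mul, eps_iso] at he
  rw [map_mul, outLin_scalar hQ hn P, one_mul]
  rcases Int.units_eq_one_or (pq h2 hQ h).2 with e | e
  · left
    exact (isoCls_eq_of_pq h2 hQ hn P (h' := 1) ((Prod.ext he e).trans (map_one _).symm)).trans
      (by rw [map_one, map_one])
  · right
    obtain ⟨h', e', hz⟩ := pq_zCls h2 hQ hn
    rw [hz]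
    exact isoCls_eq_of_pq h2 hQ hn P ((Prod.ext he e).trans e'.symm)

include h2 hQ hn P hc in
theorem zCls_eq_one_iff : zCls h2 hQ hn = 1 ↔ negIso Q ∉ Cfsg.Omega F ⇑Q := by
  obtain ⟨h, e, hz⟩ := pq_zCls h2 hQ hn
  rw [hz, show outLin Q (isoLin Q h) = outHom ⇑Q (isoEmb ⇑Q h) from rfl,
    isoCls_eq_one_iff hQ hn P, ← pq_eq_one_iff h2 hQ, ← pq_eq_one_iff h2 hQ,
    ← pq_eq_one_iff h2 hQ (negIso Q), map_mul, e]
  have hp := parity_negIso h2 hQ (show Even (Fintype.card ι) from ⟨m, by omega⟩)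
  obtain ⟨a, b, hab⟩ : ∃ a b, pq h2 hQ (negIso Q) = (a, b) := ⟨_, _, rfl⟩
  rw [hab] at hp ⊢
  obtain rfl : a = 1 := hp
  rcases Int.units_eq_one_or b with rfl | rfl <;> decide

include h2 hQ hn P hc in
theorem out_eq_one_iff_of_not_mem (hneg : negIso Q ∉ Cfsg.Omega F ⇑Q) (x : ↥(Lin Q)) :
    outLin Q x = 1 ↔ inv h2 hQ P hc x = 1 := by
  refine ⟨inv_eq_one_of_inn h2 hQ hn P hc, fun h => ?_⟩
  rcases out_pso_cases h2 hQ hn P hc h with e | e
  · exact e
  · rw [e, zCls_eq_one_iff h2 hQ hn P hc]; exact hneg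

include h2 hQ hn P hc in
/-- `-1 ∉ Ω`: `PGO / Inn` is a four group. -/
theorem pgo_mod_inn (hneg : negIso Q ∉ Cfsg.Omega F ⇑Q) (d : ↥(Lin Q)) (hd : sqHom P d.1 = -1) :
    ∃ φ : ↥(Cfsg.pgoAut F ⇑Q) →* Multiplicative (ZMod 2 × ZMod 2), Function.Surjective φ ∧
      φ.ker = (Cfsg.Inn (Cfsg.POmega F ⇑Q)).subgroupOf (Cfsg.pgoAut F ⇑Q) := by
  obtain ⟨φ, hφ, hk⟩ := pgo_mod_pso h2 hQ hn P hc d hd
  refine ⟨φ, hφ, hk.trans ?_⟩
  ext y
  rw [Subgroup.mem_subgroupOf, Subgroup.mem_subgroupOf, psoAut_eq h2 hQ P hc]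
  constructor
  · rintro ⟨x, hx, hxy⟩
    rw [← hxy, mem_inn_iff, out_eq_one_iff_of_not_mem h2 hQ hn P hc hneg]
    exact hx
  · intro hy
    obtain ⟨x, -, hxy⟩ : (y : MulAut (Cfsg.POmega F ⇑Q)) ∈
        (⊤ : Subgroup ↥(Lin Q)).map (thetaLin Q) := by rw [← pgoAut_eq Q]; exact y.2
    rw [← hxy] at hy ⊢
    exact ⟨x, (out_eq_one_iff_of_not_mem h2 hQ hn P hc hneg x).1 ((mem_inn_iff x).1 hy), rfl⟩

include h2 hQ hn P hc in
theorem relIndex_inn_pso :
    (negIso Q ∉ Cfsg.Omega F ⇑Q →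
      (Cfsg.Inn (Cfsg.POmega F ⇑Q)).relIndex (Cfsg.psoAut F ⇑Q) = 1) ∧
    (negIso Q ∈ Cfsg.Omega F ⇑Q →
      (Cfsg.Inn (Cfsg.POmega F ⇑Q)).relIndex (Cfsg.psoAut F ⇑Q) = 2) := by
  classical
  rw [psoAut_eq h2 hQ P hc]
  set π := ((outLin Q).comp (inv h2 hQ P hc).ker.subtype).rangeRestrict
  obtain ⟨φ, hφ, hk⟩ := exists_hom_of_map (thetaLin Q) (inv h2 hQ P hc).ker π
    (Cfsg.Inn (Cfsg.POmega F ⇑Q)) (fun x => by
      rw [mem_inn_iff, Subtype.ext_iff]; rfl) (MonoidHom.rangeRestrict_surjective _)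
  have hrel : (Cfsg.Inn (Cfsg.POmega F ⇑Q)).relIndex ((inv h2 hQ P hc).ker.map (thetaLin Q)) =
      Nat.card ↥((outLin Q).comp (inv h2 hQ P hc).ker.subtype).range := by
    rw [Subgroup.relIndex, ← hk, Subgroup.index_ker, MonoidHom.range_eq_top.2 hφ,
      Subgroup.card_top]
  rw [hrel]
  set R := ((outLin Q).comp (inv h2 hQ P hc).ker.subtype).range
  have hR : (R : Set (Cfsg.Out (Cfsg.POmega F ⇑Q))) = {1, zCls h2 hQ hn} := by
    ext y
    constructor
    · rintro ⟨x, rfl⟩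
      exact out_pso_cases h2 hQ hn P hc x.2
    · rintro (rfl | rfl)
      · exact one_mem R
      · obtain ⟨h, e, hz⟩ := pq_zCls h2 hQ hn
        refine ⟨⟨isoLin Q h, ?_⟩, hz.symm⟩
        rw [MonoidHom.mem_ker, inv_apply, sq_iso, eps_iso, e]
        rfl
  refine ⟨fun h => ?_, fun h => ?_⟩
  · rw [show Nat.card R = (R : Set (Cfsg.Out (Cfsg.POmega F ⇑Q))).ncard from
        Nat.card_coe_set_eq (R : Set (Cfsg.Out (Cfsg.POmega F ⇑Q))), hR,
      (zCls_eq_one_iff h2 hQ hn P hc).2 h]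
    simp
  · rw [show Nat.card R = (R : Set (Cfsg.Out (Cfsg.POmega F ⇑Q))).ncard from
        Nat.card_coe_set_eq (R : Set (Cfsg.Out (Cfsg.POmega F ⇑Q))), hR,
      Set.ncard_pair fun e => (zCls_eq_one_iff h2 hQ hn P hc).1 e.symm h]

include h2 hQ hn P hc in
/-- `-1 ∉ Ω`: `Inndiag / Inn` has order two. -/
theorem inndiag_mod_inn (hneg : negIso Q ∉ Cfsg.Omega F ⇑Q) (d : ↥(Lin Q))
    (hd : sqHom P d.1 = -1) :
    ∃ φ : ↥((eps h2 hQ P hc).ker.map (thetaLin Q)) →* Multiplicative (ZMod 2),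
      Function.Surjective φ ∧ φ.ker =
        (Cfsg.Inn (Cfsg.POmega F ⇑Q)).subgroupOf ((eps h2 hQ P hc).ker.map (thetaLin Q)) := by
  haveI : IsCyclic ℤˣ := ⟨⟨-1, fun x => by
    rcases Int.units_eq_one_or x with rfl | rfl
    · exact ⟨0, zpow_zero _⟩
    · exact ⟨1, zpow_one _⟩⟩⟩
  let e : ℤˣ ≃* Multiplicative (ZMod 2) := mulEquivOfCyclicCardEq (by simp)
  refine exists_hom_of_map (thetaLin Q) _
    ((e.toMonoidHom.comp ((sqHom P).comp (Lin Q).subtype)).comp (Subgroup.subtype _)) _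
    (fun x => ?_) ?_
  · rw [mem_inn_iff, out_eq_one_iff_of_not_mem h2 hQ hn P hc hneg, MonoidHom.comp_apply,
      MonoidHom.comp_apply, MulEquiv.coe_toMonoidHom, map_eq_one_iff _ e.injective, inv_apply,
      Prod.mk_eq_one]
    exact ⟨And.left, fun h => ⟨h, x.2⟩⟩
  · intro y
    obtain ⟨u, rfl⟩ := e.surjective y
    rcases Int.units_eq_one_or u with rfl | rfl
    · exact ⟨1, by simp⟩
    · obtain ⟨v, w, hv, hw, e1, -⟩ := exists_refls h2 hQ hn
      rcases Int.units_eq_one_or (eps h2 hQ P hc d) with h | h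
      · exact ⟨⟨d, h⟩, congrArg e hd⟩
      · refine ⟨⟨d * isoLin Q (reflIso Q v hv), ?_⟩, congrArg e ?_⟩
        · rw [MonoidHom.mem_ker, map_mul, h, eps_iso, e1]; rfl
        · show sqHom P (d.1 * (isoLin Q (reflIso Q v hv)).1) = -1
          rw [map_mul, sq_iso, hd, mul_one]

include h2 hQ hn P in
theorem outLin_iso_eq {h h' : ↥(Cfsg.isometryGroup F ⇑Q)} (e : pq h2 hQ h = pq h2 hQ h') :
    outLin Q (isoLin Q h) = outLin Q (isoLin Q h') := isoCls_eq_of_pq h2 hQ hn P e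

include h2 hQ hn P hc in
theorem outLin_iso_ne {h : ↥(Cfsg.isometryGroup F ⇑Q)} (hneg : negIso Q ∈ Cfsg.Omega F ⇑Q)
    (e : pq h2 hQ h ≠ 1) : outLin Q (isoLin Q h) ≠ 1 :=
  isoCls_ne_one_of_pq h2 hQ hn P e (by rw [(pq_eq_one_iff h2 hQ _).2 hneg, one_mul]; exact e)

include h2 hQ hn P in
theorem outLin_conj (x : ↥(Lin Q)) (u : ι → F) (hu : Q u ≠ 0) {r : ↥(Cfsg.isometryGroup F ⇑Q)}
    (e : pq h2 hQ r = (-1, sqHom P x.1 * spinHom hQ (exists_isReflProd h2 hQ) (reflIso Q u hu))) :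
    outLin Q x * outLin Q (isoLin Q (reflIso Q u hu)) * (outLin Q x)⁻¹ = outLin Q (isoLin Q r) :=
  (isoCls_conj x.1 (reflIso Q u hu)).trans
    (isoCls_eq_of_pq h2 hQ hn P ((conjIso_refl_pq h2 hQ P x.1 u hu).trans e.symm))

include h2 hQ hn P hc in
theorem simData (hneg : negIso Q ∈ Cfsg.Omega F ⇑Q) (g : ↥(Lin Q)) (hg : sqHom P g.1 = -1)
    (t : Fˣ) (hgt : g * g = scalarLin Q t) :
    SimData (outLin Q) (isoLin Q) (scalarLin Q) ((sqHom P).comp (Lin Q).subtype)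
      (eps h2 hQ P hc) (pq h2 hQ) g where
  dec x hx := exists_decomp h2 P hx
  scal := outLin_scalar hQ hn P
  cls_eq _ _ e := outLin_iso_eq h2 hQ hn P e
  cls_ne _ e := outLin_iso_ne h2 hQ hn P hc hneg e
  sgn_scal := eps_scalar h2 hQ P hc
  sgn_iso := eps_iso h2 hQ P hc
  cl_iso := sq_iso P
  ker _ hx := congrArg Prod.fst (inv_eq_one_of_inn h2 hQ hn P hc hx)
  cl_g := hg
  g_sq := by rw [hgt]; exact outLin_scalar hQ hn P t
  refl := by
    obtain ⟨v, w, hv, hw, e1, e2⟩ := exists_refls h2 hQ hn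
    refine ⟨reflIso Q v hv, reflIso Q w hw, e1, e2, outLin_conj h2 hQ hn P g v hv ?_,
      outLin_conj h2 hQ hn P g w hw ?_⟩
    · rw [e2, hg, show spinHom hQ (exists_isReflProd h2 hQ) (reflIso Q v hv) = 1 from
        congrArg Prod.snd e1, mul_one]
    · rw [e1, hg, show spinHom hQ (exists_isReflProd h2 hQ) (reflIso Q w hw) = -1 from
        congrArg Prod.snd e2, neg_mul_neg, one_mul]

include h2 hQ hn P hc in
/-- `-1 ∈ Ω`: `PGO / Inn` is dihedral of order eight. -/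
theorem pgo_mod_inn_dihedral (hneg : negIso Q ∈ Cfsg.Omega F ⇑Q) (g : ↥(Lin Q))
    (hg : sqHom P g.1 = -1) (t : Fˣ) (hgt : g * g = scalarLin Q t) :
    ∃ φ : ↥(Cfsg.pgoAut F ⇑Q) →* DihedralGroup 4, Function.Surjective φ ∧
      φ.ker = (Cfsg.Inn (Cfsg.POmega F ⇑Q)).subgroupOf (Cfsg.pgoAut F ⇑Q) := by
  obtain ⟨E⟩ := (simData h2 hQ hn P hc hneg g hg t hgt).nonempty_dihedral
  rw [pgoAut_eq Q]
  refine exists_hom_of_map (thetaLin Q) ⊤
    ((E.toMonoidHom.comp (outLin Q).rangeRestrict).comp (Subgroup.subtype _)) _ (fun x => ?_) ?_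
  · rw [mem_inn_iff, MonoidHom.comp_apply, MonoidHom.comp_apply, MulEquiv.coe_toMonoidHom,
      map_eq_one_iff _ E.injective, Subtype.ext_iff]
    rfl
  · intro y
    obtain ⟨u, rfl⟩ := E.surjective y
    obtain ⟨x, rfl⟩ := (outLin Q).rangeRestrict_surjective u
    exact ⟨⟨x, trivial⟩, rfl⟩

include h2 hQ hn P hc in
/-- `-1 ∈ Ω`: `Inndiag / Inn` is cyclic of order four iff the involutory outer similitude moves
the families. -/
theorem inndiag_mod_inn_four (hneg : negIso Q ∈ Cfsg.Omega F ⇑Q) (g : ↥(Lin Q))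
    (hg : sqHom P g.1 = -1) (t : Fˣ) (hgt : g * g = scalarLin Q t) :
    (eps h2 hQ P hc g = -1 →
      ∃ φ : ↥((eps h2 hQ P hc).ker.map (thetaLin Q)) →* Multiplicative (ZMod 4),
        Function.Surjective φ ∧ φ.ker =
          (Cfsg.Inn (Cfsg.POmega F ⇑Q)).subgroupOf ((eps h2 hQ P hc).ker.map (thetaLin Q))) ∧
    (eps h2 hQ P hc g = 1 →
      ∃ φ : ↥((eps h2 hQ P hc).ker.map (thetaLin Q)) →* Multiplicative (ZMod 2 × ZMod 2),
        Function.Surjective φ ∧ φ.ker =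
          (Cfsg.Inn (Cfsg.POmega F ⇑Q)).subgroupOf ((eps h2 hQ P hc).ker.map (thetaLin Q))) := by
  obtain ⟨h4, h22⟩ := (simData h2 hQ hn P hc hneg g hg t hgt).ker_shape
  have hfin : ∀ {X : Type} [Group X]
      (E : ↥((eps h2 hQ P hc).ker.map (outLin Q).rangeRestrict) ≃* X),
      ∃ φ : ↥((eps h2 hQ P hc).ker.map (thetaLin Q)) →* X, Function.Surjective φ ∧ φ.ker =
          (Cfsg.Inn (Cfsg.POmega F ⇑Q)).subgroupOf ((eps h2 hQ P hc).ker.map (thetaLin Q)) := by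
    intro X _ E
    refine exists_hom_of_map (thetaLin Q) _
      (E.toMonoidHom.comp ((outLin Q).rangeRestrict.subgroupMap (eps h2 hQ P hc).ker)) _
      (fun x => ?_) (E.surjective.comp ((outLin Q).rangeRestrict.subgroupMap_surjective _))
    rw [mem_inn_iff, MonoidHom.comp_apply, MulEquiv.coe_toMonoidHom,
      map_eq_one_iff _ E.injective, Subtype.ext_iff, Subtype.ext_iff]
    rfl
  exact ⟨fun h => hfin (h4 h).some, fun h => hfin (h22 h).some⟩

end CfsgLib.POmegaDiag
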