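import Cfsg.Agent.POmegaDiag.Std

/-!
# Similitudes whose square is a scalar

Linear algebra for involutions in `PGO`: the determinant, a commuting pair of reflections with
nonsquare spinor norm, and the absence of commuting similitudes with nonsquare multiplier.
-/

set_option autoImplicit false
set_option linter.unusedSectionVars false

namespace CfsgLib.POmegaDiag

open Matrix Module CfsgLib.Spinor CfsgLib.Forms CfsgLib.StdForms

variable {F : Type*} [Field F] [Fintype F] {ι : Type} [Fintype ι] [DecidableEq ι]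

/-- A linear map with nonsquare square is a scaled swap in a suitable basis. -/
theorem det_of_sq_nonsquare {A : Matrix ι ι F} {c : F} (hc : ¬ IsSquare c)
    (hA : A * A = Matrix.scalar ι c) {k : ℕ} (hk : Fintype.card ι = 2 * k) :
    A.det = (-c) ^ k := by
  classical
  have hc0 : c ≠ 0 := fun h => hc (by rw [h]; exact IsSquare.zero)
  set f := Matrix.toLin' A
  have hff : ∀ v, f (f v) = c • v := fun v => by
    show Matrix.toLin' A (Matrix.toLin' A v) = _
    rw [Matrix.toLin'_apply, Matrix.toLin'_apply, mulVec_mulVec, hA]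
    ext i
    simp [Matrix.mulVec_diagonal]
  have hinj : Function.Injective f := fun x y h => by
    have := congrArg f h
    rw [hff, hff] at this
    exact smul_right_injective _ hc0 this
  obtain ⟨U, hU, hmax⟩ := (set_has_maximal_iff_noetherian (R := F) (M := ι → F)).2 inferInstance
    {U : Submodule F (ι → F) | U ⊓ U.map f = ⊥} ⟨⊥, by simp⟩
  have hcompl : IsCompl U (U.map f) := by
    refine ⟨disjoint_iff.2 hU, codisjoint_iff.2 ?_⟩
    by_contra hne
    obtain ⟨u, -, hu⟩ := SetLike.exists_of_lt (lt_top_iff_ne_top.2 hne)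
    have hW : ∀ w ∈ U ⊔ U.map f, f w ∈ U ⊔ U.map f := by
      intro w hw
      obtain ⟨x, hx, _, ⟨y, hy, rfl⟩, rfl⟩ := Submodule.mem_sup.1 hw
      rw [map_add, hff]
      exact add_comm (c • y) (f x) ▸
        Submodule.add_mem_sup (U.smul_mem c hy) ⟨x, hx, rfl⟩
    refine hmax (U ⊔ Submodule.span F {u}) ?_ ?_
    · show _ ⊓ _ = ⊥
      rw [eq_bot_iff]
      rintro z ⟨hz, z', hz', rfl⟩
      obtain ⟨w', hw', _, hb, rfl⟩ := Submodule.mem_sup.1 hz'
      obtain ⟨b, rfl⟩ := Submodule.mem_span_singleton.1 hb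
      obtain ⟨w, hw, _, ha, e⟩ := Submodule.mem_sup.1 hz
      obtain ⟨a, rfl⟩ := Submodule.mem_span_singleton.1 ha
      have h1 : a • u - b • f u ∈ U ⊔ U.map f := by
        have : a • u - b • f u = f w' - w := by
          rw [sub_eq_sub_iff_add_eq_add, add_comm, e, map_add, map_smul]
        rw [this]
        exact Submodule.sub_mem _ (Submodule.mem_sup_right ⟨w', hw', rfl⟩)
          (Submodule.mem_sup_left hw)
      have h2 := hW _ h1
      rw [map_sub, map_smul, map_smul, hff, smul_smul] at h2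
      have h3 : (a * a - b * b * c) • u ∈ U ⊔ U.map f := by
        have := Submodule.add_mem _ (Submodule.smul_mem _ a h1) (Submodule.smul_mem _ b h2)
        convert this using 1
        module
      have h0 : a * a - b * b * c = 0 := by
        by_contra hd
        refine hu ?_
        have := Submodule.smul_mem _ (a * a - b * b * c)⁻¹ h3
        rwa [smul_smul, inv_mul_cancel₀ hd, one_smul] at this
      have hb0 : b = 0 := by
        by_contra hb0
        exact hc ⟨a / b, by field_simp; linear_combination -h0⟩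
      have ha0 : a = 0 := mul_self_eq_zero.1 (by rw [hb0] at h0; linear_combination h0)
      rw [ha0, zero_smul, add_zero] at e
      rw [hb0, zero_smul, add_zero] at e ⊢
      have : f w' ∈ U ⊓ U.map f := ⟨e ▸ hw, w', hw', rfl⟩
      rwa [hU] at this
    · exact lt_of_le_of_ne le_sup_left fun h => hu (Submodule.mem_sup_left
        (h ▸ Submodule.mem_sup_right (Submodule.mem_span_singleton_self u)))
  have hdim : finrank F U = k := by
    have h := Submodule.finrank_add_eq_of_isCompl hcompl
    rw [← LinearEquiv.finrank_eq (Submodule.equivMapOfInjective f hinj U),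
      finrank_fintype_fun_eq_card, hk] at h
    omega
  let b : Basis (Fin k) F U := finBasisOfFinrankEq F U hdim
  let bb : Basis (Fin k ⊕ Fin k) F (ι → F) :=
    (b.prod (b.map (Submodule.equivMapOfInjective f hinj U))).map
      (U.prodEquivOfIsCompl _ hcompl)
  have hl : ∀ i, bb (.inl i) = (b i : ι → F) := fun i => by simp [bb]
  have hr : ∀ i, bb (.inr i) = f (b i : ι → F) := fun i => by simp [bb]
  have hM : LinearMap.toMatrix bb bb f = swapScale c := by
    ext x y
    rw [LinearMap.toMatrix_apply]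
    rcases y with j | j
    · rw [hl, ← hr, Basis.repr_self]
      rcases x with i | i <;>
        simp [swapScale, Finsupp.single_apply, Matrix.one_apply, eq_comm]
    · rw [hr, hff, ← hl, map_smul, Basis.repr_self]
      rcases x with i | i <;>
        simp [swapScale, Finsupp.single_apply, Matrix.one_apply, eq_comm]
  rw [← LinearMap.det_toLin' A, ← LinearMap.det_toMatrix bb, hM, det_swapScale hc0,
    Fintype.card_fin]

variable {Q : QuadraticForm F (ι → F)}

set_option quotPrecheck false in
local notation "B" => QuadraticMap.polar (DFunLike.coe Q)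

variable {A : Matrix ι ι F} {μ : F}

theorem mulVec_scalar (c : F) (v : ι → F) : Matrix.scalar ι c *ᵥ v = c • v := by
  ext i
  simp [Matrix.mulVec_diagonal]

/-- The eigenspace. -/
def eig (A : Matrix ι ι F) (s : F) : Submodule F (ι → F) :=
  LinearMap.ker (Matrix.toLin' A - s • LinearMap.id)

theorem mem_eig {s : F} {v : ι → F} : v ∈ eig A s ↔ A *ᵥ v = s • v := by
  simp [eig, sub_eq_zero]

theorem isCompl_eig (h2 : (2 : F) ≠ 0) {s : F} (hs : s ≠ 0)
    (hA : A * A = Matrix.scalar ι (s * s)) : IsCompl (eig A s) (eig A (-s)) := by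
  refine ⟨disjoint_iff.2 ?_, codisjoint_iff.2 ?_⟩
  · rw [eq_bot_iff]
    rintro v ⟨hv, hv'⟩
    rw [SetLike.mem_coe, mem_eig] at hv hv'
    have : (s + s) • v = 0 := by rw [add_smul]; nth_rw 2 [← hv]; rw [hv', neg_smul, add_neg_cancel]
    exact (smul_eq_zero.1 this).resolve_left (by rw [← two_mul]; exact mul_ne_zero h2 hs)
  · rw [eq_top_iff]
    intro v _
    have hd : v = ((2 * s)⁻¹) • (s • v + A *ᵥ v) + ((2 * s)⁻¹) • (s • v - A *ᵥ v) := by
      rw [← smul_add, add_add_sub_cancel, ← add_smul, smul_smul, ← two_mul,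
        inv_mul_cancel₀ (mul_ne_zero h2 hs), one_smul]
    rw [hd]
    refine Submodule.add_mem_sup (Submodule.smul_mem _ _ (mem_eig.2 ?_))
      (Submodule.smul_mem _ _ (mem_eig.2 ?_))
    · rw [mulVec_add, mulVec_smul, mulVec_mulVec, hA, mulVec_scalar, smul_add, smul_smul]
      exact add_comm _ _
    · rw [mulVec_sub, mulVec_smul, mulVec_mulVec, hA, mulVec_scalar, smul_sub, smul_smul, neg_smul,
        neg_mul, neg_smul]
      module

theorem det_eig (h2 : (2 : F) ≠ 0) {s : F} (hs : s ≠ 0)
    (hA : A * A = Matrix.scalar ι (s * s)) :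
    A.det = s ^ finrank F (eig A s) * (-s) ^ finrank F (eig A (-s)) := by
  have hc := isCompl_eig h2 hs hA
  let e := Submodule.prodEquivOfIsCompl _ _ hc
  have hconj : Matrix.toLin' A = (e : (eig A s × eig A (-s)) →ₗ[F] (ι → F)) ∘ₗ
      ((s • LinearMap.id).prodMap ((-s) • LinearMap.id)) ∘ₗ (e.symm : (ι → F) →ₗ[F] _) := by
    refine LinearMap.ext fun v => ?_
    obtain ⟨⟨x, y⟩, rfl⟩ := e.surjective v
    show A *ᵥ e (x, y) = e (((s • LinearMap.id).prodMap ((-s) • LinearMap.id)) (e.symm (e (x, y))))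
    rw [LinearEquiv.symm_apply_apply]
    simp [e, mulVec_add, mem_eig.1 x.2, mem_eig.1 y.2]
  rw [← LinearMap.det_toLin' A, hconj, LinearMap.det_conj, LinearMap.det_prodMap,
    LinearMap.det_smul, LinearMap.det_smul, LinearMap.det_id, LinearMap.det_id, mul_one, mul_one]

variable (hQ : (QuadraticMap.polarBilin Q).Nondegenerate) (hA : IsSim Q A μ) {m : ℕ}
  (hc : Fintype.card ι = 2 * m)

include hQ hc in
theorem finrank_le_of_singular {W : Submodule F (ι → F)} (hW : ∀ w ∈ W, Q w = 0) :
    finrank F W ≤ m := by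
  have hle : W ≤ LinearMap.BilinForm.orthogonal (QuadraticMap.polarBilin Q) W :=
    fun a ha b hb => polar_eq_zero_of_singular hW hb ha
  have h := Submodule.finrank_mono hle
  rw [LinearMap.BilinForm.finrank_orthogonal hQ, finrank_fintype_fun_eq_card, hc] at h
  omega

include hQ hA hc in
/-- If the square is minus the multiplier, the classes are preserved. -/
theorem det_of_sq_neg (h2 : (2 : F) ≠ 0) (hμ : μ ≠ 0) (hsq : A * A = Matrix.scalar ι (-μ)) :
    A.det = μ ^ m := by
  by_cases hs : IsSquare (-μ)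
  · obtain ⟨s, hs⟩ := hs
    have hs0 : s ≠ 0 := fun h => hμ (neg_eq_zero.1 (by rw [hs, h, zero_mul]))
    have hsing : ∀ r : F, r * r = -μ → ∀ v ∈ eig A r, Q v = 0 := by
      intro r hr v hv
      have h := hA v
      rw [mem_eig.1 hv, QuadraticMap.map_smul, smul_eq_mul, hr] at h
      have : 2 * μ * Q v = 0 := by linear_combination -h
      exact (mul_eq_zero.1 this).resolve_left (mul_ne_zero h2 hμ)
    have hco := isCompl_eig h2 hs0 (hsq.trans (by rw [hs]))
    have h1 := finrank_le_of_singular hQ hc (hsing s hs.symm)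
    have h2' := finrank_le_of_singular hQ hc (hsing (-s) (by rw [neg_mul_neg, hs]))
    have h3 := Submodule.finrank_add_eq_of_isCompl hco
    rw [finrank_fintype_fun_eq_card, hc] at h3
    refine det_eq_of_map_le hQ hc (U := eig A s) ⟨by omega, hsing s hs.symm⟩ hA fun u hu => ?_
    rw [mem_eig.1 hu]
    exact Submodule.smul_mem _ _ hu
  · rw [det_of_sq_nonsquare hs hsq hc, neg_neg]

variable (h2 : (2 : F) ≠ 0) (hμ : μ ≠ 0) (hsq : A * A = Matrix.scalar ι μ)

include hA hμ hsq in
theorem polar_adjoint (u v : ι → F) : B (A *ᵥ u) v = B u (A *ᵥ v) := by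
  have h := hA.polar (A *ᵥ u) v
  rw [mulVec_mulVec, hsq, mulVec_scalar, QuadraticMap.polar_smul_left, smul_eq_mul] at h
  exact (mul_left_cancel₀ hμ h).symm

include hA hμ hsq in
theorem polar_eig {s : F} (h2 : (2 : F) ≠ 0) (hs : μ = s * s) {u v : ι → F} (hu : u ∈ eig A s)
    (hv : v ∈ eig A (-s)) : B u v = 0 := by
  have h := polar_adjoint hA hμ hsq u v
  rw [mem_eig.1 hu, mem_eig.1 hv, QuadraticMap.polar_smul_left, QuadraticMap.polar_smul_right,
    smul_eq_mul, smul_eq_mul] at h
  have hs0 : s ≠ 0 := fun e => hμ (by rw [hs, e, zero_mul])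
  have : 2 * s * B u v = 0 := by linear_combination h
  exact (mul_eq_zero.1 this).resolve_left (mul_ne_zero h2 hs0)

include hQ hA h2 hμ hsq in
theorem eq_zero_of_perp_eig {s : F} (hs : μ = s * s) {z : ι → F} (hz : z ∈ eig A s)
    (hperp : ∀ v ∈ eig A s, B z v = 0) : z = 0 := by
  refine hQ.1 z fun v => ?_
  obtain ⟨x, hx, y, hy, rfl⟩ := Submodule.mem_sup.1
    ((isCompl_eig h2 (s := s) (fun e => hμ (by rw [hs, e, zero_mul])) (by rw [hsq, hs])).sup_eq_top.symm ▸
      Submodule.mem_top : v ∈ eig A s ⊔ eig A (-s))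
  rw [QuadraticMap.polarBilin_apply_apply, QuadraticMap.polar_add_right, hperp x hx,
    polar_eig hA hμ hsq h2 hs hz hy, add_zero]

/-- A subspace on which the form is nondegenerate, of dimension at least two, takes all values. -/
theorem exists_value_in (h2 : (2 : F) ≠ 0) {U : Submodule F (ι → F)}
    (hU : ∀ z ∈ U, (∀ v ∈ U, B z v = 0) → z = 0) (hd : 2 ≤ finrank F U) (c : F) :
    ∃ w ∈ U, Q w = c := by
  have hex : ∀ W : Submodule F (ι → F), W ≤ U → W ≠ ⊥ →
      (∀ z ∈ W, (∀ v ∈ W, B z v = 0) → ∀ v ∈ U, B z v = 0) → ∃ a ∈ W, Q a ≠ 0 := by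
    intro W hWU hW hext
    by_contra hno
    push Not at hno
    obtain ⟨z, hz, hz0⟩ := W.exists_mem_ne_zero_of_ne_bot hW
    exact hz0 (hU z (hWU hz) (hext z hz fun v hv => polar_eq_zero_of_singular hno hz hv))
  obtain ⟨a, ha, ha0⟩ := hex U le_rfl (by rintro rfl; rw [finrank_bot] at hd; omega)
    fun _ _ h => h
  set W := U ⊓ LinearMap.ker (QuadraticMap.polarBilin Q a) with hW
  have haW : ∀ v ∈ U, v - (B a v / (2 * Q a)) • a ∈ W := fun v hv => by
    refine ⟨U.sub_mem hv (U.smul_mem _ ha), ?_⟩
    rw [SetLike.mem_coe, LinearMap.mem_ker, QuadraticMap.polarBilin_apply_apply,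
      QuadraticMap.polar_sub_right, QuadraticMap.polar_smul_right, smul_eq_mul, polar_self']
    field_simp
    ring
  have hW0 : W ≠ ⊥ := by
    intro h
    have : U ≤ Submodule.span F {a} := fun v hv => by
      have := haW v hv
      rw [h, Submodule.mem_bot, sub_eq_zero] at this
      rw [this]
      exact Submodule.smul_mem _ _ (Submodule.mem_span_singleton_self a)
    have := (Submodule.finrank_mono this).trans (finrank_span_le_card ({a} : Set (ι → F)))
    simp at this
    omega
  obtain ⟨b, ⟨hbU, hab⟩, hb0⟩ := hex W inf_le_left hW0 fun z hz hzW v hv => by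
    have h := hzW _ (haW v hv)
    have hz2 : B a z = 0 := hz.2
    rwa [QuadraticMap.polar_sub_right, QuadraticMap.polar_smul_right,
      QuadraticMap.polar_comm _ z a, hz2, smul_zero, sub_zero] at h
  have hab' : B a b = 0 := hab
  obtain ⟨x, y, hxy⟩ := exists_diag_binary h2 ha0 hb0 c
  refine ⟨x • a + y • b, U.add_mem (U.smul_mem _ ha) (U.smul_mem _ hbU), ?_⟩
  rw [QuadraticMap.map_add (⇑Q), QuadraticMap.map_smul, QuadraticMap.map_smul,
    QuadraticMap.polar_smul_left, QuadraticMap.polar_smul_right, hab']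
  simp only [smul_eq_mul]
  linear_combination hxy

include hA hμ in
theorem mul_reflectionMatrix (v : ι → F) :
    A * Cfsg.reflectionMatrix (⇑Q) v = Cfsg.reflectionMatrix (⇑Q) (A *ᵥ v) * A := by
  refine Matrix.ext_iff_mulVec.2 fun x => ?_
  rw [← mulVec_mulVec, ← mulVec_mulVec, reflectionMatrix_mulVec, reflectionMatrix_mulVec,
    refl_apply, refl_apply, mulVec_sub, mulVec_smul, hA.polar, hA v]
  congr 2
  rcases eq_or_ne (Q v) 0 with h | h
  · simp [h]
  · field_simp

include hQ hA h2 hμ hsq hc in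
/-- Two anisotropic vectors whose reflections commute with `A` and have nonsquare spinor norm. -/
theorem exists_commuting_pair (hm : 3 ≤ m) :
    ∃ u w : ι → F, Q u ≠ 0 ∧ Q w ≠ 0 ∧ ¬ IsSquare (Q u * Q w) ∧
      A * (Cfsg.reflectionMatrix (⇑Q) u * Cfsg.reflectionMatrix (⇑Q) w) =
        Cfsg.reflectionMatrix (⇑Q) u * Cfsg.reflectionMatrix (⇑Q) w * A := by
  classical
  by_cases hs : IsSquare μ
  · obtain ⟨s, hs⟩ := hs
    have hs0 : s ≠ 0 := fun h => hμ (by rw [hs, h, zero_mul])
    have hsum := Submodule.finrank_add_eq_of_isCompl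
      (isCompl_eig h2 hs0 (hsq.trans (by rw [hs])))
    rw [finrank_fintype_fun_eq_card, hc] at hsum
    obtain ⟨r, hr, hd⟩ : ∃ r : F, μ = r * r ∧ 2 ≤ finrank F (eig A r) := by
      by_cases h : 2 ≤ finrank F (eig A s)
      · exact ⟨s, hs, h⟩
      · exact ⟨-s, by rw [neg_mul_neg, hs], by omega⟩
    have hr0 : r ≠ 0 := fun h => hμ (by rw [hr, h, zero_mul])
    have hU := fun z hz => eq_zero_of_perp_eig hQ hA h2 hμ hsq hr (z := z) hz
    obtain ⟨α, hα⟩ := FiniteField.exists_nonsquare (F := F) fun h => h2 (by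
      haveI := ringChar.eq_iff.1 h; exact CharTwo.two_eq_zero)
    obtain ⟨u, hu, hQu⟩ := exists_value_in h2 hU hd 1
    obtain ⟨w, hw, hQw⟩ := exists_value_in h2 hU hd α
    have hcomm : ∀ v ∈ eig A r, A * Cfsg.reflectionMatrix (⇑Q) v =
        Cfsg.reflectionMatrix (⇑Q) v * A := fun v hv => by
      rw [mul_reflectionMatrix hA hμ, mem_eig.1 hv]
      congr 1
      refine Matrix.toLin'.injective ?_
      rw [toLin'_reflectionMatrix, toLin'_reflectionMatrix, refl_smul Q hr0]
    refine ⟨u, w, by rw [hQu]; exact one_ne_zero, fun h => hα ?_, by rwa [hQu, one_mul, hQw], ?_⟩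
    · rw [← hQw, h]; exact IsSquare.zero
    · rw [← mul_assoc, hcomm u hu, mul_assoc, hcomm w hw, mul_assoc]
  · -- the quadratic extension
    haveI : Fact (∀ r, r ^ 2 ≠ μ + 0 * r) := ⟨fun r h => hs ⟨r, by linear_combination -h⟩⟩
    haveI : Finite (QuadraticAlgebra F μ 0) := Module.finite_of_finite F
    obtain ⟨a, ha⟩ := exists_value h2 hQ (by omega) (1 : F)
    set W := LinearMap.ker (QuadraticMap.polarBilin Q a) ⊓
      LinearMap.ker (QuadraticMap.polarBilin Q (A *ᵥ a)) with hW
    obtain ⟨b, ⟨hb1, hb2⟩, hb0⟩ : ∃ b ∈ W, Q b ≠ 0 := by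
      by_contra hno
      push Not at hno
      have hle := finrank_le_of_singular hQ hc (W := W) hno
      rw [hW] at hle
      have e1 := LinearMap.finrank_range_add_finrank_ker (QuadraticMap.polarBilin Q a)
      have e2 := LinearMap.finrank_range_add_finrank_ker (QuadraticMap.polarBilin Q (A *ᵥ a))
      have r1 := (LinearMap.range (QuadraticMap.polarBilin Q a)).finrank_le
      have r2 := (LinearMap.range (QuadraticMap.polarBilin Q (A *ᵥ a))).finrank_le
      have e3 := Submodule.finrank_sup_add_finrank_inf_eq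
        (LinearMap.ker (QuadraticMap.polarBilin Q a))
        (LinearMap.ker (QuadraticMap.polarBilin Q (A *ᵥ a)))
      have e4 := (LinearMap.ker (QuadraticMap.polarBilin Q a) ⊔
        LinearMap.ker (QuadraticMap.polarBilin Q (A *ᵥ a))).finrank_le
      rw [finrank_self] at r1 r2
      rw [finrank_fintype_fun_eq_card, hc] at e1 e2 e4
      omega
    have hb1' : B a b = 0 := hb1
    have hb2' : B (A *ᵥ a) b = 0 := hb2
    have hadj := polar_adjoint hA hμ hsq
    set ca := B a (A *ᵥ a) with hca
    set cb := B b (A *ᵥ b) with hcb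
    have hK2 : (2 : QuadraticAlgebra F μ 0) ≠ 0 := fun h => h2 (by
      have := congrArg QuadraticAlgebra.re h
      simpa [QuadraticAlgebra.re_ofNat] using this)
    obtain ⟨α, β, hαβ⟩ := exists_diag_binary hK2 (a := (⟨ca, 2 * Q a⟩ : QuadraticAlgebra F μ 0))
      (b := ⟨cb, 2 * Q b⟩)
      (fun h => mul_ne_zero h2 (by rw [ha]; exact one_ne_zero) (congrArg QuadraticAlgebra.im h))
      (fun h => mul_ne_zero h2 hb0 (congrArg QuadraticAlgebra.im h)) ⟨0, 2⟩
    have hre := congrArg QuadraticAlgebra.re hαβ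
    have him := congrArg QuadraticAlgebra.im hαβ
    simp only [sq, QuadraticAlgebra.re_add, QuadraticAlgebra.im_add, QuadraticAlgebra.re_mul,
      QuadraticAlgebra.im_mul] at hre him
    set v := α.re • a + α.im • (A *ᵥ a) + β.re • b + β.im • (A *ᵥ b) with hv
    have hAv : A *ᵥ v =
        α.re • (A *ᵥ a) + (μ * α.im) • a + β.re • (A *ᵥ b) + (μ * β.im) • b := by
      rw [hv]
      simp only [mulVec_add, mulVec_smul, mulVec_mulVec, hsq, mulVec_scalar]
      module
    have hAa : B (A *ᵥ a) a = ca := by rw [QuadraticMap.polar_comm]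
    have hAb : B (A *ᵥ b) b = cb := by rw [QuadraticMap.polar_comm]
    have hab3 : B a (A *ᵥ b) = 0 := by rw [← hadj]; exact hb2'
    have hab4 : B (A *ᵥ a) (A *ᵥ b) = 0 := by rw [hA.polar, hb1', mul_zero]
    have hba : B b a = 0 := by rw [QuadraticMap.polar_comm, hb1']
    have hba2 : B b (A *ᵥ a) = 0 := by rw [QuadraticMap.polar_comm, hb2']
    have hba3 : B (A *ᵥ b) a = 0 := by rw [QuadraticMap.polar_comm, hab3]
    have hba4 : B (A *ᵥ b) (A *ᵥ a) = 0 := by rw [QuadraticMap.polar_comm, hab4]
    have hvv : B v v = 2 * Q v := polar_self' Q v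
    have hQv : Q v = 1 := by
      refine mul_left_cancel₀ h2 (hvv.symm.trans ?_)
      rw [hv]
      simp only [QuadraticMap.polar_add_left, QuadraticMap.polar_add_right,
        QuadraticMap.polar_smul_left, QuadraticMap.polar_smul_right, smul_eq_mul, hAa, hAb, hb1',
        hb2', hab3, hab4, hba, hba2, hba3, hba4, ← hca, ← hcb, hA.polar, polar_self']
      linear_combination him
    have hperp : B v (A *ᵥ v) = 0 := by
      rw [hAv, hv]
      simp only [QuadraticMap.polar_add_left, QuadraticMap.polar_add_right,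
        QuadraticMap.polar_smul_left, QuadraticMap.polar_smul_right, smul_eq_mul, hAa, hAb, hb1',
        hb2', hab3, hab4, hba, hba2, hba3, hba4, ← hca, ← hcb, hA.polar, polar_self']
      linear_combination hre
    refine ⟨v, A *ᵥ v, by rw [hQv]; exact one_ne_zero, by rw [hA v, hQv, mul_one]; exact hμ,
      by rwa [hA v, hQv, one_mul, mul_one], ?_⟩
    have hAAv : Cfsg.reflectionMatrix (⇑Q) (A *ᵥ A *ᵥ v) = Cfsg.reflectionMatrix (⇑Q) v := by
      refine Matrix.toLin'.injective ?_
      rw [toLin'_reflectionMatrix, toLin'_reflectionMatrix, mulVec_mulVec, hsq, mulVec_scalar,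
        refl_smul Q hμ]
    have hswap : Cfsg.reflectionMatrix (⇑Q) (A *ᵥ v) * Cfsg.reflectionMatrix (⇑Q) v =
        Cfsg.reflectionMatrix (⇑Q) v * Cfsg.reflectionMatrix (⇑Q) (A *ᵥ v) := by
      refine Matrix.ext_iff_mulVec.2 fun x => ?_
      simp only [← mulVec_mulVec, reflectionMatrix_mulVec, refl_apply, QuadraticMap.polar_sub_right,
        QuadraticMap.polar_smul_right, smul_eq_mul, hperp, QuadraticMap.polar_comm _ (A *ᵥ v) v]
      module
    rw [← mul_assoc, mul_reflectionMatrix hA hμ, mul_assoc, mul_reflectionMatrix hA hμ, hAAv,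
      ← mul_assoc, hswap]

include hQ hA h2 hμ hsq hc in
/-- For even `m`, no similitude with nonsquare multiplier commutes with `A` up to sign. -/
theorem false_of_commute (hm : Even m) (hdet : A.det ≠ μ ^ m) {H : Matrix ι ι F} {ν : F}
    (hH : IsSim Q H ν) (hν : ¬ IsSquare ν) (hHA : H * A = A * H ∨ H * A = -(A * H)) : False := by
  classical
  have hν0 : ν ≠ 0 := fun h => hν (by rw [h]; exact IsSquare.zero)
  obtain ⟨s, hs⟩ : IsSquare μ := by
    by_contra h
    exact hdet (by rw [det_of_sq_nonsquare h hsq hc, hm.neg_pow])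
  have hs0 : s ≠ 0 := fun h => hμ (by rw [hs, h, zero_mul])
  have hsq' : A * A = Matrix.scalar ι (s * s) := hsq.trans (by rw [hs])
  have hsum := Submodule.finrank_add_eq_of_isCompl (isCompl_eig h2 hs0 hsq')
  rw [finrank_fintype_fun_eq_card, hc] at hsum
  have hd := det_eig h2 hs0 hsq'
  have hodd : Odd (finrank F (eig A (-s))) := by
    rw [← Nat.not_even_iff_odd]
    intro he
    refine hdet ?_
    rw [hd, he.neg_pow, ← pow_add, hsum, pow_mul, sq, ← hs]
  have hodd' : Odd (finrank F (eig A s)) := by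
    rw [Nat.odd_iff] at hodd ⊢
    omega
  have hinj : Function.Injective (Matrix.toLin' H) := by
    rw [injective_iff_map_eq_zero]
    intro v hv
    refine hQ.1 v fun w => ?_
    have := hH.polar v w
    rw [show H *ᵥ v = 0 from (Matrix.toLin'_apply H v).symm.trans hv,
      QuadraticMap.polar_zero_left] at this
    exact (mul_eq_zero.1 this.symm).resolve_left hν0
  rcases hHA with h | h
  · have hmap : ∀ u ∈ eig A s, Matrix.toLin' H u ∈ eig A s := fun u hu => by
      rw [mem_eig, Matrix.toLin'_apply, mulVec_mulVec, ← h, ← mulVec_mulVec, mem_eig.1 hu,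
        mulVec_smul]
    let r := (Matrix.toLin' H).restrict hmap
    let BU : LinearMap.BilinForm F (eig A s) :=
      LinearMap.BilinForm.comp (QuadraticMap.polarBilin Q) (eig A s).subtype (eig A s).subtype
    let b := Module.finBasis F (eig A s)
    have hBU : BU.Nondegenerate := by
      refine ⟨fun z hz => Subtype.ext ?_, fun z hz => Subtype.ext ?_⟩
      · exact eq_zero_of_perp_eig hQ hA h2 hμ hsq hs z.2 fun v hv => hz ⟨v, hv⟩
      · exact eq_zero_of_perp_eig hQ hA h2 hμ hsq hs z.2 fun v hv =>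
          (QuadraticMap.polar_comm _ _ _).trans (hz ⟨v, hv⟩)
    have hG := (LinearMap.BilinForm.nondegenerate_iff_det_ne_zero b).1 hBU
    have hcomp : BU.comp r r = ν • BU := by
      refine LinearMap.ext fun x => LinearMap.ext fun y => ?_
      exact hH.polar _ _
    have he := congrArg Matrix.det (congrArg (LinearMap.BilinForm.toMatrix b) hcomp)
    rw [LinearMap.BilinForm.toMatrix_comp b b BU r r, map_smul, det_mul, det_mul, det_transpose,
      det_smul, Fintype.card_fin] at he
    set δ := (LinearMap.toMatrix b b r).det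
    have hδ : δ * δ = ν ^ finrank F (eig A s) := mul_right_cancel₀ hG (by linear_combination he)
    obtain ⟨j, hj⟩ := hodd'
    refine hν ⟨δ / ν ^ j, ?_⟩
    rw [hj] at hδ
    field_simp
    linear_combination -hδ
  · have hle : ∀ r : F, finrank F (eig A r) ≤ finrank F (eig A (-r)) := by
      intro r
      rw [LinearEquiv.finrank_eq (Submodule.equivMapOfInjective _ hinj (eig A r))]
      refine Submodule.finrank_mono ?_
      rintro _ ⟨u, hu, rfl⟩
      rw [mem_eig, Matrix.toLin'_apply, mulVec_mulVec, ← neg_neg (A * H), ← h, neg_mulVec,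
        ← mulVec_mulVec, mem_eig.1 hu, mulVec_smul, neg_smul]
    have e1 := hle s
    have e2 := hle (-s)
    rw [neg_neg] at e2
    rw [Nat.odd_iff] at hodd
    rw [Nat.even_iff] at hm
    omega

end CfsgLib.POmegaDiag
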