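import Cfsg.Agent.POmegaDiag.Det
import Cfsg.Agent.Forms4.POmegaOrders

/-!
# The class-preserving similitudes of the standard forms
-/

set_option autoImplicit false

namespace CfsgLib.POmegaDiag

open Matrix Module Polynomial CfsgLib.Forms CfsgLib.StdForms

variable {F : Type*} [Field F]

theorem preserves_plus (h2 : (2 : F) ≠ 0) (m : ℕ) {M : Matrix (Fin m ⊕ Fin m) (Fin m ⊕ Fin m) F}
    {μ : F} (hμ : μ ≠ 0) (hM : ∀ v, plusQ m F (M *ᵥ v) = μ * plusQ m F v) :
    Cfsg.PreservesSingularClasses (Cfsg.quadFormPlus m F) M ↔ M.det = μ ^ m := by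
  rw [← coe_plusQ]
  exact preserves_iff (plusQ_nondegenerate m) (by simp [two_mul])
    (isMaxSing_stdMax (F := F) fun _ => true) h2 hμ hM

/-- The maximal singular subspace of the minus form once `θ` solves `θ² + a θ + b = 0`. -/
def minusMax (K : Type*) [Field K] (m : ℕ) (θ : K) :
    Submodule K ((Fin m ⊕ Fin m) ⊕ Fin 2 → K) where
  carrier := {v | (∀ i, v (.inl (.inr i)) = 0) ∧ v (.inr 0) = θ * v (.inr 1)}
  add_mem' := fun {v w} hv hw => ⟨fun i => by simp [hv.1 i, hw.1 i], by
    simp [hv.2, hw.2, mul_add]⟩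
  zero_mem' := ⟨fun i => rfl, by simp⟩
  smul_mem' := fun r v hv => ⟨fun i => by simp [hv.1 i], by simp [hv.2]; ring⟩

theorem isMaxSing_minusMax {K : Type*} [Field K] (m : ℕ) (a b θ : K)
    (hθ : θ ^ 2 + a * θ + b = 0) : IsMaxSing (minusQ m K a b) (m + 1) (minusMax K m θ) := by
  constructor
  · let e : (Fin m ⊕ Unit → K) ≃ₗ[K] minusMax K m θ :=
      { toFun := fun x => ⟨Sum.elim (Sum.elim (fun i => x (.inl i)) 0)
            ![θ * x (.inr ()), x (.inr ())], fun i => rfl, rfl⟩
        invFun := fun v => Sum.elim (fun i => v.1 (.inl (.inl i))) fun _ => v.1 (.inr 1)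
        map_add' := fun x y => Subtype.ext (funext fun j => by
          rcases j with (i | i) | i
          · simp
          · simp
          · fin_cases i <;> simp [mul_add])
        map_smul' := fun r x => Subtype.ext (funext fun j => by
          rcases j with (i | i) | i
          · simp
          · simp
          · fin_cases i <;> simp <;> ring)
        left_inv := fun x => funext fun j => by rcases j with i | i <;> simp
        right_inv := fun v => Subtype.ext (funext fun j => by
          rcases j with (i | i) | i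
          · simp
          · simpa using (v.2.1 i).symm
          · fin_cases i <;> simp [v.2.2]) }
    rw [← e.finrank_eq, finrank_fintype_fun_eq_card]
    simp
  · intro v hv
    rw [minusQ_apply]
    simp only [Cfsg.quadFormMinus]
    rw [Finset.sum_eq_zero (fun i _ => by rw [hv.1 i, mul_zero]), hv.2]
    linear_combination (v (.inr 1)) ^ 2 * hθ

theorem exists_root [Fintype F] {a b : F}
    (hab : ∀ z₁ z₂ : F, z₁ ^ 2 + a * z₁ * z₂ + b * z₂ ^ 2 = 0 → z₁ = 0 ∧ z₂ = 0)
    (K : Type*) [Field K] [Algebra F K] (hK : finrank F K = 2) :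
    ∃ θ : K, θ ^ 2 + algebraMap F K a * θ + algebraMap F K b = 0 := by
  classical
  haveI : Module.Finite F K := Module.finite_of_finrank_pos (by omega)
  haveI : Finite K := Module.finite_of_finite F
  haveI := Fintype.ofFinite K
  set f : F[X] := X ^ 2 + C a * X + C b with hf
  have hd : f.natDegree = 2 := by rw [hf]; compute_degree!
  have hf0 : f ≠ 0 := fun h => by rw [h, natDegree_zero] at hd; omega
  have hroot : ∀ x, ¬ f.IsRoot x := fun x hx => by
    rw [IsRoot, hf] at hx
    simp only [eval_add, eval_pow, eval_X, eval_mul, eval_C] at hx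
    exact one_ne_zero (hab x 1 (by linear_combination hx)).2
  have hirr : Irreducible f := irreducible_of_degree_le_three_of_not_isRoot (by
    rw [Finset.mem_Icc, hd]; omega) hroot
  have hdvd : f ∣ X ^ (Nat.card F) ^ 2 - X :=
    (hirr.natDegree_dvd_iff_dvd_X_pow_card_pow_sub_X (n := 2)).1 (by rw [hd])
  have hcard : Fintype.card K = Nat.card F ^ 2 := by
    rw [Module.card_eq_pow_finrank (K := F) (V := K), hK, Nat.card_eq_fintype_card]
  have hdvdK : f.map (algebraMap F K) ∣ X ^ Fintype.card K - X := by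
    have := Polynomial.map_dvd (algebraMap F K) hdvd
    rwa [Polynomial.map_sub, Polynomial.map_pow, map_X, ← hcard] at this
  have hprod : (X ^ Fintype.card K - X : K[X]) = ∏ x : K, (X - C x) := by
    refine (prod_multiset_X_sub_C_of_monic_of_roots_card_eq ?_ ?_).symm.trans ?_
    · exact monic_X_pow_sub (by rw [degree_X]; exact_mod_cast Fintype.one_lt_card)
    · rw [FiniteField.roots_X_pow_card_sub_X, FiniteField.X_pow_card_sub_X_natDegree_eq K
        Fintype.one_lt_card]
      simp
    · rw [FiniteField.roots_X_pow_card_sub_X]; rfl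
  by_contra hno
  push Not at hno
  have hirrK : Irreducible (f.map (algebraMap F K)) := by
    refine irreducible_of_degree_le_three_of_not_isRoot (by
      rw [Finset.mem_Icc, natDegree_map, hd]; omega) fun x hx => hno x ?_
    rw [IsRoot, hf] at hx
    simpa using hx
  rw [hprod] at hdvdK
  obtain ⟨x, -, hx⟩ := (hirrK.prime.dvd_finsetProd_iff _).1 hdvdK
  have := natDegree_le_of_dvd hx (X_sub_C_ne_zero x)
  rw [natDegree_map, hd, natDegree_X_sub_C] at this
  omega

/-- The form over an extension. -/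
theorem sim_extend {a b : F} (h2 : (2 : F) ≠ 0) {K : Type*} [Field K] [Algebra F K] (m : ℕ)
    {M : Matrix ((Fin m ⊕ Fin m) ⊕ Fin 2) ((Fin m ⊕ Fin m) ⊕ Fin 2) F} {μ : F}
    (hM : ∀ v, minusQ m F a b (M *ᵥ v) = μ * minusQ m F a b v) :
    ∀ v, minusQ m K (algebraMap F K a) (algebraMap F K b) (M.map (algebraMap F K) *ᵥ v) =
      algebraMap F K μ * minusQ m K (algebraMap F K a) (algebraMap F K b) v := by
  set e := algebraMap F K
  set Q := minusQ m F a b
  set Q' := minusQ m K (e a) (e b)
  have hmap : ∀ v : (Fin m ⊕ Fin m) ⊕ Fin 2 → F, Q' (fun i => e (v i)) = e (Q v) := fun v => by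
    simp only [Q, Q', minusQ_apply, Cfsg.quadFormMinus, map_add, map_sum, map_mul, map_pow]
  have hpol : ∀ u v : (Fin m ⊕ Fin m) ⊕ Fin 2 → F,
      QuadraticMap.polar (⇑Q') (fun i => e (u i)) (fun i => e (v i)) =
        e (QuadraticMap.polar (⇑Q) u v) := fun u v => by
    simp only [QuadraticMap.polar, map_sub, ← hmap, Pi.add_apply, map_add]
    rfl
  have hpolM : ∀ u v, QuadraticMap.polar (⇑Q) (M *ᵥ u) (M *ᵥ v) = μ * QuadraticMap.polar (⇑Q) u v :=
    IsSim.polar hM
  have h2K : (2 : K) ≠ 0 := by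
    rw [← map_ofNat e 2]; exact (_root_.map_ne_zero e).2 h2
  have hbil : ((QuadraticMap.polarBilin Q').compl₁₂ (Matrix.toLin' (M.map e))
      (Matrix.toLin' (M.map e))) = e μ • QuadraticMap.polarBilin Q' := by
    refine LinearMap.ext_basis (Pi.basisFun K _) (Pi.basisFun K _) fun i j => ?_
    simp only [LinearMap.compl₁₂_apply, LinearMap.smul_apply, smul_eq_mul,
      QuadraticMap.polarBilin_apply_apply, Pi.basisFun_apply, Matrix.toLin'_apply]
    have hs : ∀ i, (Pi.single i (1 : K) : (Fin m ⊕ Fin m) ⊕ Fin 2 → K) =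
        fun l => e ((Pi.single i (1 : F) : (Fin m ⊕ Fin m) ⊕ Fin 2 → F) l) := fun i => by
      funext l
      rcases eq_or_ne l i with rfl | hl <;> simp [*]
    have hm : ∀ u : (Fin m ⊕ Fin m) ⊕ Fin 2 → F,
        M.map e *ᵥ (fun l => e (u l)) = fun l => e ((M *ᵥ u) l) := fun u =>
      funext fun l => (RingHom.map_mulVec e M u l).symm
    rw [hs i, hs j, hm, hm, hpol, hpol, hpolM, map_mul]
  intro v
  have h := LinearMap.congr_fun (LinearMap.congr_fun hbil v) v
  simp only [LinearMap.compl₁₂_apply, LinearMap.smul_apply, smul_eq_mul,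
    QuadraticMap.polarBilin_apply_apply, Matrix.toLin'_apply, QuadraticMap.polar_self] at h
  simp only [nsmul_eq_mul, Nat.cast_ofNat] at h
  exact mul_left_cancel₀ h2K (by linear_combination h)

universe u

theorem preserves_minus {F : Type u} [Field F] [Fintype F] (h2 : (2 : F) ≠ 0) (m : ℕ) {a b : F}
    (hab : ∀ z₁ z₂ : F, z₁ ^ 2 + a * z₁ * z₂ + b * z₂ ^ 2 = 0 → z₁ = 0 ∧ z₂ = 0)
    {M : Matrix ((Fin m ⊕ Fin m) ⊕ Fin 2) ((Fin m ⊕ Fin m) ⊕ Fin 2) F} {μ : F} (hμ : μ ≠ 0)
    (hM : ∀ v, minusQ m F a b (M *ᵥ v) = μ * minusQ m F a b v) :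
    Cfsg.PreservesSingularClassesMinus m a b M ↔ M.det = μ ^ (m + 1) := by
  classical
  have key : ∀ (K : Type u) [Field K] [Algebra F K], finrank F K = 2 →
      (Cfsg.PreservesSingularClasses (Cfsg.quadFormMinus m K (algebraMap F K a) (algebraMap F K b))
        (M.map (algebraMap F K)) ↔ M.det = μ ^ (m + 1)) := by
    intro K _ _ hK
    obtain ⟨θ, hθ⟩ := exists_root hab K hK
    have h2K : (2 : K) ≠ 0 := by
      rw [← map_ofNat (algebraMap F K) 2]; exact (_root_.map_ne_zero _).2 h2
    have hd : (algebraMap F K a) ^ 2 - 4 * algebraMap F K b ≠ 0 := by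
      rw [← map_pow, ← map_ofNat (algebraMap F K) 4, ← map_mul, ← map_sub]
      exact (_root_.map_ne_zero _).2 (CfsgLib.Forms4.disc_ne_zero hab)
    rw [← coe_minusQ, preserves_iff (minusQ_nondegenerate m hd) (by simp; ring)
      (isMaxSing_minusMax m _ _ θ hθ) h2K ((_root_.map_ne_zero _).2 hμ) (sim_extend h2 m hM),
      ← map_pow, show (M.map ⇑(algebraMap F K)).det = algebraMap F K M.det from
        (RingHom.map_det _ M).symm, (algebraMap F K).injective.eq_iff]
  constructor
  · rintro ⟨K, _, _, hK, h⟩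
    exact (key K hK).1 h
  · intro h
    set f : F[X] := X ^ 2 + C a * X + C b with hf
    have hd : f.natDegree = 2 := by rw [hf]; compute_degree!
    haveI : Fact (Irreducible f) := ⟨irreducible_of_degree_le_three_of_not_isRoot (by
      rw [Finset.mem_Icc, hd]; omega) fun x hx => by
        rw [IsRoot, hf] at hx
        simp only [eval_add, eval_pow, eval_X, eval_mul, eval_C] at hx
        exact one_ne_zero (hab x 1 (by linear_combination hx)).2⟩
    have hf0 : f ≠ 0 := fun h' => by rw [h', natDegree_zero] at hd; omega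
    have hK : finrank F (AdjoinRoot f) = 2 := by
      rw [(AdjoinRoot.powerBasis hf0).finrank, AdjoinRoot.powerBasis_dim, hd]
    exact ⟨AdjoinRoot f, inferInstance, inferInstance, hK, (key _ hK).2 h⟩

end CfsgLib.POmegaDiag
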