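import Cfsg.Agent.POmegaDiag.Invol
import Cfsg.Agent.POmegaDiag.Cases
import Cfsg.Agent.AutPSL.ClassSplit

/-!
# Splitting of the class of an outer involution of `PGO` under `Inndiag`
-/

set_option autoImplicit false
set_option linter.unusedSectionVars false
set_option maxHeartbeats 800000

namespace CfsgLib.POmegaDiag

open Matrix Module CfsgLib.Spinor CfsgLib.Forms CfsgLib.Forms4 CfsgLib.OutPOmega

/-- The number of classes as the index of the image of the centralizer. -/
theorem splitClassCount_eq_map_index {A X : Type*} [Group A] [Group X] (H K : Subgroup A)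
    [K.Normal] (hKH : K ≤ H) (π : H →* X) (hπ : Function.Surjective π)
    (hker : π.ker = K.subgroupOf H) (x : A) :
    Cfsg.splitClassCount H K x =
      (((Subgroup.centralizer ({x} : Set A)).comap H.subtype).map π).index := by
  have h := CfsgLib.AutPSL.splitClassCount_eq_index H.subtype (K.subgroupOf H) x
  rw [Subgroup.range_subtype, Subgroup.subgroupOf_map_subtype, inf_eq_left.2 hKH] at h
  rw [h, Subgroup.index_map, MonoidHom.range_eq_top.2 hπ, Subgroup.index_top, mul_one, hker,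
    sup_comm]

theorem SimData.sgn_commute {L O K N : Type*} [Group L] [Group O] [Group K] [Group N]
    {o : L →* O} {i : K →* L} {s : N →* L} {cl e : L →* ℤˣ} {p : K →* ℤˣ × ℤˣ} {g : L}
    (D : SimData o i s cl e p g) {y h : L} (hy : e y = -1) (hh : e h = 1)
    (hc : o y * o h = o h * o y) : cl h = 1 := by
  refine (Int.units_eq_one_or _).resolve_right fun hcl => ?_
  obtain ⟨u, hu1, hu2, huc⟩ : ∃ u, e u = -1 ∧ cl u = 1 ∧ o u * o h = o h * o u := by
    rcases Int.units_eq_one_or (cl y) with h' | h'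
    · exact ⟨y, hy, h', hc⟩
    · refine ⟨y * h, by rw [map_mul, hy, hh, mul_one], by rw [map_mul, h', hcl]; rfl, ?_⟩
      rw [map_mul, mul_assoc, ← mul_assoc (o h), ← hc, mul_assoc]
  obtain ⟨t, r, rfl⟩ := D.dec u hu2
  rw [map_mul, D.sgn_scal, one_mul, D.sgn_iso] at hu1
  rw [D.out_iso] at huc
  obtain ⟨r1, r2, e1, e2, c1, c2⟩ := D.refl
  obtain ⟨t', k, hk⟩ := D.dec (h * g⁻¹) (by rw [map_mul, map_inv, hcl, D.cl_g]; rfl)
  have hoh : o h = o (i k) * o g := by
    rw [← D.out_iso t' k, ← hk, ← map_mul, inv_mul_cancel_right]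
  have hconj : ∀ a b : K, o g * o (i a) * (o g)⁻¹ = o (i b) →
      o (i a) * o h = o h * o (i a) → o (i a) = o (i b) := by
    intro a b hab hcomm
    have h1 : o h * o (i a) * (o h)⁻¹ = o (i a) := by rw [← hcomm, mul_inv_cancel_right]
    rw [hoh] at h1
    have h2 : o (i k) * (o g * o (i a) * (o g)⁻¹) * (o (i k))⁻¹ = o (i a) := by
      refine Eq.trans ?_ h1
      group
    rw [hab] at h2
    rw [← h2, ← map_mul, ← map_inv, ← map_mul, ← map_mul, ← map_inv, ← map_mul]
    exact D.cls_eq _ _ (by rw [map_mul, map_mul, map_inv, mul_inv_cancel_comm])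
  have hr12 : o (i r1) ≠ o (i r2) := fun e' => D.cls_ne (r1⁻¹ * r2)
    (by rw [map_mul, map_inv, e1, e2]; decide)
    (by rw [map_mul, map_inv, map_mul, map_inv, e', inv_mul_cancel])
  obtain ⟨a, b, hab⟩ : ∃ a b, p r = (a, b) := ⟨_, _, rfl⟩
  rw [hab] at hu1
  obtain rfl : a = -1 := hu1
  rcases Int.units_eq_one_or b with rfl | rfl
  · rw [D.cls_eq r r1 (hab.trans e1.symm)] at huc
    exact hr12 (hconj r1 r2 c1 huc)
  · rw [D.cls_eq r r2 (hab.trans e2.symm)] at huc
    exact hr12 (hconj r2 r1 c2 huc).symm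

variable {F : Type*} [Field F] [Fintype F] [DecidableEq F] {ι : Type} [Fintype ι] [DecidableEq ι]
  {Q : QuadraticForm F (ι → F)} (h2 : (2 : F) ≠ 0)
  (hQ : (QuadraticMap.polarBilin Q).Nondegenerate) (hn : 5 ≤ Fintype.card ι) (P : TwoPairs Q)
  {m : ℕ} (hc : Fintype.card ι = 2 * m)

include hQ hn P in
theorem exists_scalar_of_thetaLin {x : ↥(Lin Q)} (h : thetaLin Q x = 1) :
    ∃ t, x = scalarLin Q t := by
  obtain ⟨t, ht⟩ := eq_scalar_of_theta_eq_one hQ hn P (x := x.1) h
  exact ⟨t, Subtype.ext ht⟩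

theorem mat_mul_lin (x y : ↥(Lin Q)) :
    (x * y).1.1.left.1 = x.1.1.left.1 * y.1.1.left.1 := by
  show (x.1.1.left * fieldGL x.1.1.right y.1.1.left).1 = _
  rw [lin_right x, map_one]
  rfl

theorem mat_scalarLin (t : Fˣ) : (scalarLin Q t).1.1.left.1 = Matrix.scalar ι (t : F) := rfl

theorem mat_isoLin (h : ↥(Cfsg.isometryGroup F ⇑Q)) : (isoLin Q h).1.1.left.1 = mat Q h := rfl

theorem eq_of_mat_eq {x y : ↥(Lin Q)} (h : x.1.1.left.1 = y.1.1.left.1) : x = y :=
  Subtype.ext (Subtype.ext (SemidirectProduct.ext (Units.ext h)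
    ((lin_right x).trans (lin_right y).symm)))

include P in
theorem mult_mul_lin (x y : ↥(Lin Q)) :
    (mult (x * y).1 : F) = (mult x.1 : F) * mult y.1 := by
  rw [Subgroup.coe_mul, mult_mul P, Units.val_mul, lin_right]
  rfl

include h2 hQ hn P hc in
/-- An outer involution squares to its multiplier. -/
theorem sq_eq_mult {y : ↥(Lin Q)} (hy : thetaLin Q y * thetaLin Q y = 1)
    (hε : eps h2 hQ P hc y = -1) :
    y.1.1.left.1 * y.1.1.left.1 = Matrix.scalar ι (mult y.1 : F) := by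
  rw [← map_mul] at hy
  obtain ⟨t, ht⟩ := exists_scalar_of_thetaLin hQ hn P hy
  have hmat : y.1.1.left.1 * y.1.1.left.1 = Matrix.scalar ι (t : F) := by
    rw [← mat_mul_lin, ht, mat_scalarLin]
  have hm : (mult y.1 : F) * mult y.1 = (t : F) * t := by
    have h := congrArg (fun x : ↥(Lin Q) => (mult x.1 : F)) ht
    rwa [Subgroup.coe_mul, mult_mul P, show (scalarLin Q t).1 = scalarEmb Q t from rfl,
      mult_scalarEmb P, Units.val_mul, Units.val_mul, lin_right] at h
  rcases mul_self_eq_mul_self_iff.1 hm with e | e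
  · rw [hmat, e]
  · exfalso
    have hd := det_of_sq_neg hQ (A := y.1.1.left.1) (lin_isSim y) hc h2 (Units.ne_zero _)
      (by rw [hmat, e, neg_neg])
    rw [(eps_eq_one_iff h2 hQ P hc y).2 hd] at hε
    exact absurd hε (by decide)

include h2 hQ hn P hc in
theorem inn_le :
    Cfsg.Inn (Cfsg.POmega F ⇑Q) ≤ (eps h2 hQ P hc).ker.map (thetaLin Q) := by
  rintro _ ⟨u, rfl⟩
  obtain ⟨s, rfl⟩ := QuotientGroup.mk_surjective u
  refine ⟨isoLin Q s.1, ?_, theta_isoEmb s⟩
  rw [SetLike.mem_coe, MonoidHom.mem_ker, eps_iso, (pq_eq_one_iff h2 hQ _).2 s.2]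
  rfl

include h2 hQ hn P hc in
/-- `-1 ∈ Ω`: two classes. -/
theorem splitCount_of_mem (hm : 3 ≤ m) (hneg : negIso Q ∈ Cfsg.Omega F ⇑Q) (g : ↥(Lin Q))
    (hg : sqHom P g.1 = -1) (t : Fˣ) (hgt : g * g = scalarLin Q t) (y : ↥(Lin Q))
    (hy2 : thetaLin Q y * thetaLin Q y = 1) (hε : eps h2 hQ P hc y = -1) :
    Cfsg.splitClassCount ((eps h2 hQ P hc).ker.map (thetaLin Q))
      (Cfsg.Inn (Cfsg.POmega F ⇑Q)) (thetaLin Q y) = 2 := by
  have D := simData h2 hQ hn P hc hneg g hg t hgt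
  set H := (eps h2 hQ P hc).ker.map (thetaLin Q) with hH
  -- `H / Inn` has order four
  obtain ⟨X, _, hX, π, hπ, hker⟩ : ∃ (X : Type) (_ : Group X), Nat.card X = 4 ∧
      ∃ π : H →* X, Function.Surjective π ∧
        π.ker = (Cfsg.Inn (Cfsg.POmega F ⇑Q)).subgroupOf H := by
    obtain ⟨h4, h22⟩ := inndiag_mod_inn_four h2 hQ hn P hc hneg g hg t hgt
    rcases Int.units_eq_one_or (eps h2 hQ P hc g) with e | e
    · exact ⟨_, inferInstance, by simp, h22 e⟩
    · exact ⟨_, inferInstance, by simp, h4 e⟩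
  rw [splitClassCount_eq_map_index H _ (inn_le h2 hQ hn P hc) π hπ hker]
  -- a nontrivial centralizing class
  obtain ⟨u, w, hu, hw, hns, hcomm⟩ := exists_commuting_pair hQ (lin_isSim y) hc h2 (Units.ne_zero _)
    (sq_eq_mult h2 hQ hn P hc hy2 hε) hm
  set h₀ := isoLin Q (reflIso Q u hu * reflIso Q w hw) with hh₀
  have hpq : pq h2 hQ (reflIso Q u hu * reflIso Q w hw) = (1, -1) := by
    have hprod : quadraticChar F (Q u * Q w) = -1 :=
      quadraticChar_neg_one_iff_not_isSquare.2 hns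
    rw [map_mul] at hprod
    rcases quadraticChar_dichotomy hu with a | a <;> rcases quadraticChar_dichotomy hw with b | b <;>
      rw [a, b] at hprod <;> (try norm_num at hprod)
    · rw [map_mul, pq_reflIso h2 hQ u hu 1 a, pq_reflIso h2 hQ w hw (-1) b]; rfl
    · rw [map_mul, pq_reflIso h2 hQ u hu (-1) a, pq_reflIso h2 hQ w hw 1 b]; rfl
  have hh₀ε : eps h2 hQ P hc h₀ = 1 := by rw [hh₀, eps_iso, hpq]
  have hh₀y : h₀ * y = y * h₀ := by
    refine eq_of_mat_eq ?_
    rw [mat_mul_lin, mat_mul_lin, hh₀, mat_isoLin, mat_mul, mat_reflIso, mat_reflIso]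
    exact hcomm.symm
  have hh₀out : outLin Q h₀ ≠ 1 := outLin_iso_ne h2 hQ hn P hc hneg (by rw [hpq]; decide)
  have hmem : ∀ x : H, π x = 1 ↔ ∀ z, thetaLin Q z = x.1 → outLin Q z = 1 := fun x => by
    rw [← MonoidHom.mem_ker, hker, Subgroup.mem_subgroupOf]
    obtain ⟨z, -, hz⟩ := x.2
    exact ⟨fun h z' hz' => (mem_inn_iff z').1 (by rw [hz']; exact h),
      fun h => by rw [← hz, mem_inn_iff]; exact h z hz⟩
  let x₀ : H := ⟨thetaLin Q h₀, h₀, hh₀ε, rfl⟩
  have hx₀ : π x₀ ≠ 1 := fun h => hh₀out ((hmem x₀).1 h h₀ rfl)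
  have hset : ((((Subgroup.centralizer ({thetaLin Q y} : Set _)).comap H.subtype).map π) : Set X) =
      {1, π x₀} := by
    ext ξ
    constructor
    · rintro ⟨x, hx, rfl⟩
      obtain ⟨z, hz, hzx⟩ := x.2
      rw [SetLike.mem_coe, Subgroup.mem_comap, Subgroup.mem_centralizer_singleton_iff] at hx
      have hxc : x.1 * thetaLin Q y = thetaLin Q y * x.1 := hx
      rw [← hzx] at hxc
      have hoc : outLin Q y * outLin Q z = outLin Q z * outLin Q y :=
        (congrArg (QuotientGroup.mk' (Cfsg.Inn (Cfsg.POmega F ⇑Q))) hxc).symm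
      have hs := D.sgn_commute hε hz hoc
      have hinv : ∀ z' : ↥(Lin Q), eps h2 hQ P hc z' = 1 → sqHom P z'.1 = 1 →
          outLin Q z' = 1 ∨ outLin Q z' = zCls h2 hQ hn := fun z' e1 e2 =>
        out_pso_cases h2 hQ hn P hc (by rw [inv_apply, e1, e2]; rfl)
      have hz0 : outLin Q h₀ = zCls h2 hQ hn :=
        (hinv h₀ hh₀ε (by rw [hh₀, sq_iso])).resolve_left hh₀out
      rcases hinv z hz hs with e | e
      · left
        refine (hmem x).2 fun z' hz' => ?_
        have : thetaLin Q z' = thetaLin Q z := hz'.trans hzx.symm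
        exact ((congrArg (QuotientGroup.mk' (Cfsg.Inn (Cfsg.POmega F ⇑Q))) this)).trans e
      · right
        rw [Set.mem_singleton_iff, ← inv_mul_eq_one, ← map_inv, ← map_mul, hmem]
        intro z' hz'
        have : thetaLin Q z' = thetaLin Q (z⁻¹ * h₀) := by
          rw [hz', map_mul, map_inv, hzx]; rfl
        refine ((congrArg (QuotientGroup.mk' (Cfsg.Inn (Cfsg.POmega F ⇑Q))) this)).trans ?_
        show outLin Q (z⁻¹ * h₀) = 1
        rw [map_mul, map_inv, e, hz0, inv_mul_cancel]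
    · rintro (rfl | rfl)
      · exact one_mem _
      · refine ⟨x₀, ?_, rfl⟩
        rw [SetLike.mem_coe, Subgroup.mem_comap, Subgroup.mem_centralizer_singleton_iff]
        show thetaLin Q h₀ * thetaLin Q y = thetaLin Q y * thetaLin Q h₀
        rw [← map_mul, hh₀y, map_mul]
  set I := ((Subgroup.centralizer ({thetaLin Q y} : Set _)).comap H.subtype).map π
  have hcard : Nat.card I = 2 := by
    rw [show Nat.card I = (I : Set X).ncard from Nat.card_coe_set_eq (I : Set X), hset,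
      Set.ncard_pair (Ne.symm hx₀)]
  have hmul := I.card_mul_index
  rw [hcard, hX] at hmul
  omega

include h2 hQ hn P hc in
/-- `-1 ∉ Ω`: at most two classes, and exactly two when `m` is even. -/
theorem splitCount_of_not_mem (hneg : negIso Q ∉ Cfsg.Omega F ⇑Q) (d : ↥(Lin Q))
    (hd : sqHom P d.1 = -1) (y : ↥(Lin Q))
    (hy2 : thetaLin Q y * thetaLin Q y = 1) (hε : eps h2 hQ P hc y = -1) :
    (Cfsg.splitClassCount ((eps h2 hQ P hc).ker.map (thetaLin Q))
        (Cfsg.Inn (Cfsg.POmega F ⇑Q)) (thetaLin Q y) = 1 ∨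
      Cfsg.splitClassCount ((eps h2 hQ P hc).ker.map (thetaLin Q))
        (Cfsg.Inn (Cfsg.POmega F ⇑Q)) (thetaLin Q y) = 2) ∧
    (Even m → Cfsg.splitClassCount ((eps h2 hQ P hc).ker.map (thetaLin Q))
        (Cfsg.Inn (Cfsg.POmega F ⇑Q)) (thetaLin Q y) = 2) := by
  obtain ⟨π, hπ, hker⟩ := inndiag_mod_inn h2 hQ hn P hc hneg d hd
  rw [splitClassCount_eq_map_index _ _ (inn_le h2 hQ hn P hc) π hπ hker]
  set I := ((Subgroup.centralizer ({thetaLin Q y} : Set _)).comap (Subgroup.subtype _)).map π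
    with hI
  refine ⟨?_, fun hm => ?_⟩
  · have hdvd := I.index_dvd_card
    rw [Nat.card_eq_fintype_card, Fintype.card_multiplicative, ZMod.card] at hdvd
    exact (Nat.dvd_prime Nat.prime_two).1 hdvd
  · suffices I = ⊥ by rw [this, Subgroup.index_bot]; simp
    rw [eq_bot_iff]
    rintro _ ⟨x, hx, rfl⟩
    rw [Subgroup.mem_bot, ← MonoidHom.mem_ker, hker, Subgroup.mem_subgroupOf]
    obtain ⟨z, hz, hzx⟩ := x.2
    rw [SetLike.mem_coe, Subgroup.mem_comap, Subgroup.mem_centralizer_singleton_iff] at hx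
    have hxc : x.1 * thetaLin Q y = thetaLin Q y * x.1 := hx
    rw [← hzx] at hxc ⊢
    rw [← map_mul, ← map_mul] at hxc
    obtain ⟨s, hs⟩ := exists_scalar_of_thetaLin hQ hn P
      (x := (y * z)⁻¹ * (z * y)) (by rw [map_mul, map_inv, hxc, inv_mul_cancel])
    have hzy : z * y = y * z * scalarLin Q s := by rw [← hs, mul_inv_cancel_left]
    rw [mem_inn_iff, out_eq_one_iff_of_not_mem h2 hQ hn P hc hneg, inv_apply, Prod.mk_eq_one]
    refine ⟨(Int.units_eq_one_or _).resolve_right fun hsq => ?_, hz⟩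
    have hν : ¬ IsSquare (mult z.1 : F) := by
      intro hsqr
      have h1 := congrArg (fun u : ℤˣ => (u : ℤ)) hsq
      rw [sqHom_coe, (quadraticChar_one_iff_isSquare (Units.ne_zero _)).2 hsqr] at h1
      norm_num at h1
    have hmult := congrArg (fun u : ↥(Lin Q) => (mult u.1 : F)) hzy
    simp only [mult_mul_lin P, show (scalarLin Q s).1 = scalarEmb Q s from rfl,
      mult_scalarEmb P, Units.val_mul] at hmult
    have hs2 : (s : F) * s = 1 := by
      refine mul_left_cancel₀ (mul_ne_zero (Units.ne_zero (mult y.1)) (Units.ne_zero (mult z.1)))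
        (Eq.trans ?_ (mul_one _).symm)
      refine hmult.symm.trans ?_
      exact mul_comm _ _
    have hdet : y.1.1.left.1.det ≠ (mult y.1 : F) ^ m := fun h => by
      rw [(eps_eq_one_iff h2 hQ P hc y).2 h] at hε
      exact absurd hε (by decide)
    refine false_of_commute hQ (lin_isSim y) hc h2 (Units.ne_zero _)
      (sq_eq_mult h2 hQ hn P hc hy2 hε) hm hdet (lin_isSim z) hν ?_
    have hmm := congrArg (fun u : ↥(Lin Q) => u.1.1.left.1) hzy
    rw [mat_mul_lin, mat_mul_lin, mat_mul_lin, mat_scalarLin] at hmm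
    rcases mul_self_eq_one_iff.1 hs2 with e | e
    · left; rw [hmm, e, map_one, mul_one]
    · right; rw [hmm, e, map_neg, map_one, mul_neg, mul_one]

include h2 hQ P hc in
/-- A semisimilarity inducing an involution is linear when some Frobenius power is a graph
element. -/
theorem fld_trivial {f : ℕ} (Φ : FieldGen P f) (hΦ : sdet (Φ.φ ^ f) = -1)
    {x : ↥(semi ⇑Q)} {t : Fˣ} (hx : x * x = scalarEmb Q t) : fldHom ⇑Q x = 1 := by
  by_contra hne
  obtain ⟨k, hk⟩ := Φ.gen (fldHom ⇑Q x)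
  set σ := fldHom ⇑Q x with hσ
  have hσ2 : σ * σ = 1 := by
    rw [hσ, ← map_mul, hx]
    rfl
  obtain ⟨j, hj⟩ : (f : ℤ) ∣ 2 * k := by
    rw [← Φ.ord, orderOf_dvd_iff_zpow_eq_one, two_mul, _root_.zpow_add, ← hk, hσ2]
  have hjodd : Odd j := by
    rw [← Int.not_even_iff_odd]
    rintro ⟨l, rfl⟩
    refine hne (hk.trans ?_)
    rw [← orderOf_dvd_iff_zpow_eq_one, Φ.ord]
    exact ⟨l, by linarith⟩
  set R := Φ.φ ^ k with hR
  have hRf : fldHom ⇑Q R = σ := by rw [hR, map_zpow, hk]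
  have hmf : ∀ n : ℤ, mult (Φ.φ ^ n) = 1 := by
    intro n
    have hinv : ∀ z : ↥(semi ⇑Q), mult z = 1 → mult z⁻¹ = 1 := fun z hz => by
      have := mult_mul P z z⁻¹
      rw [mul_inv_cancel, OutPOmega.mult_one P, hz, one_mul] at this
      exact Units.ext ((map_eq_one_iff _ z.1.right.injective).1 (congrArg Units.val this).symm)
    obtain ⟨l, rfl | rfl⟩ := n.eq_nat_or_neg
    · rw [zpow_natCast]; exact mult_pow_of_one P Φ.mult_one l
    · rw [_root_.zpow_neg, zpow_natCast]; exact hinv _ (mult_pow_of_one P Φ.mult_one l)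
  set z := x * R⁻¹ with hz
  have hzf : fldHom ⇑Q z = 1 := by rw [hz, map_mul, map_inv, hRf, mul_inv_cancel]
  have hxz : x = z * R := by rw [hz, inv_mul_cancel_right]
  let zl : ↥(Lin Q) := ⟨z, hzf⟩
  have hRR : sdet (R * R) = -1 := by
    rw [hR, ← _root_.zpow_add, ← two_mul, hj, _root_.zpow_mul, zpow_natCast]
    set G : ↥(Lin Q) := ⟨Φ.φ ^ f, Φ.fld_pow⟩
    have hhom : ∀ n : ℤ, sdet (Q := Q) ((Φ.φ ^ f) ^ n) = (-1 : F) ^ n := by
      let d : ↥(Lin Q) →* Fˣ :=
        (Matrix.GeneralLinearGroup.det).comp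
          { toFun := fun u : ↥(Lin Q) => u.1.1.left
            map_one' := rfl
            map_mul' := fun u v => Units.ext (mat_mul_lin u v) }
      have hd : ∀ u : ↥(Lin Q), (d u : F) = sdet u.1 := fun u => rfl
      intro n
      have h1 : (d (G ^ n) : F) = (-1 : F) ^ n := by
        rw [map_zpow, Units.val_zpow_eq_zpow_val, hd]
        exact congrArg (· ^ n) hΦ
      rw [← h1, hd, SubgroupClass.coe_zpow]
    rw [hhom, hjodd.neg_one_zpow]
  have hsd : sdet (x * x) = sdet z * σ (sdet z) * sdet (R * R) := by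
    rw [sdet_mul, sdet_mul R R, hxz, sdet_mul z R, show z.1.right = 1 from hzf,
      show (z * R).1.right = σ from by rw [← hxz]; rfl, show R.1.right = σ from hRf,
      RingAut.one_apply, map_mul]
    ring
  have hmx : mult x = mult z := by
    rw [hxz, mult_mul P, hmf, map_one, mul_one]
  have hmm : (t : F) * t = (mult z : F) * σ (mult z : F) := by
    have h := congrArg (fun u => (mult u : F)) hx
    rw [mult_mul P, mult_scalarEmb P, Units.val_mul, Units.val_mul, hmx] at h
    rw [← h]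
    rfl
  have hzz : sdet z * σ (sdet z) = ((mult z : F) * σ (mult z : F)) ^ m := by
    rcases sdet_cases hQ hc zl with e | e <;>
      rw [show sdet z = _ from e, mul_pow, ← map_pow]
    rw [map_neg, neg_mul_neg]
  rw [hx, sdet_scalarEmb, hRR, hzz, ← hmm, hc, ← pow_two, ← pow_mul] at hsd
  exact mul_ne_zero h2 (pow_ne_zero (2 * m) t.ne_zero) (by linear_combination hsd)

theorem gamma_le_range :
    Cfsg.gammaPOmega F ⇑Q ≤ (theta ⇑Q).range := by
  refine (Subgroup.closure_le _).2 ?_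
  rintro β ⟨g, σ, h, hβ⟩
  exact ⟨_, ((isInduced_iff h β).1 hβ).symm⟩

end CfsgLib.POmegaDiag
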