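import Cfsg.Agent.POmegaDiag.Groups
import Cfsg.Agent.POmegaDiag.Minus
import Cfsg.Agent.OutPOmega.Plus

/-!
# The standard forms as inputs for `PGO / Inn`

For both forms: a similitude with nonsquare multiplier, and one squaring to a scalar with
determinant `(-μ) ^ m`.
-/

set_option autoImplicit false
set_option linter.unusedSectionVars false

namespace CfsgLib.POmegaDiag

open Matrix Module CfsgLib.Spinor CfsgLib.Forms CfsgLib.Forms4 CfsgLib.OutPOmega CfsgLib.StdForms

variable {F : Type*} [Field F] [Fintype F]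

section general

variable {ι : Type} [Fintype ι] [DecidableEq ι] {Q : QuadraticForm F (ι → F)}

theorem exists_lin_of_matrix (P : TwoPairs Q) (M : Matrix ι ι F) (hM : M.det ≠ 0) {c : F}
    (hc : c ≠ 0) (h : ∀ v, Q (M *ᵥ v) = c * Q v) :
    ∃ x : ↥(Lin Q), (mult x.1 : F) = c ∧ x.1.1.left.1 = M := by
  obtain ⟨x, ⟨hx, hm⟩, hl⟩ := exists_semi_of_matrix M hM (1 : F ≃+* F) c hc (fun v => h v) P
  exact ⟨⟨x, hx⟩, hm, hl⟩

theorem mul_self_eq_scalarLin {x : ↥(Lin Q)} {t : Fˣ}
    (h : x.1.1.left.1 * x.1.1.left.1 = Matrix.scalar ι (t : F)) : x * x = scalarLin Q t := by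
  refine Subtype.ext (Subtype.ext (SemidirectProduct.ext ?_ ?_))
  · refine Units.ext ?_
    show (x.1.1.left * fieldGL x.1.1.right x.1.1.left).1 = _
    rw [lin_right x, map_one]
    exact h
  · show x.1.1.right * x.1.1.right = 1
    rw [lin_right x, one_mul]

end general

section swap

variable {k : Type*} [Fintype k] [DecidableEq k]

/-- Interchanging the halves of every pair, one of them scaled. -/
def swapScale (α : F) : Matrix (k ⊕ k) (k ⊕ k) F := Matrix.fromBlocks 0 (α • 1) 1 0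

theorem swapScale_mulVec (α : F) (v : k ⊕ k → F) :
    swapScale α *ᵥ v = Sum.elim (fun i => α * v (.inr i)) fun i => v (.inl i) := by
  rw [swapScale, Matrix.fromBlocks_mulVec]
  funext j
  rcases j with j | j <;> simp [Matrix.smul_mulVec]

theorem swapScale_mul_self (α : F) : swapScale α * swapScale α = Matrix.scalar (k ⊕ k) α := by
  rw [swapScale, Matrix.fromBlocks_multiply]
  ext i j
  rcases i with i | i <;> rcases j with j | j <;>
    simp [Matrix.one_apply, Matrix.diagonal_apply]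

theorem det_swapScale {α : F} (hα : α ≠ 0) :
    (swapScale (k := k) α).det = (-α) ^ Fintype.card k := by
  have hu : swapScale (k := k) α * Matrix.fromBlocks (1 : Matrix k k F) 0 (1 : Matrix k k F) (1 : Matrix k k F) =
      Matrix.fromBlocks (α • 1) (α • 1) 1 0 := by
    rw [swapScale, Matrix.fromBlocks_multiply]
    simp
  have hd : (Matrix.fromBlocks (1 : Matrix k k F) 0 (1 : Matrix k k F) (1 : Matrix k k F)).det = 1 := by
    rw [Matrix.det_fromBlocks_zero₁₂, det_one, one_mul]
  haveI : Invertible (α • (1 : Matrix k k F)) :=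
    Matrix.invertibleOfIsUnitDet _ (by simp [det_smul, hα])
  have h := congrArg Matrix.det hu
  rw [det_mul, hd, mul_one, Matrix.det_fromBlocks₁₁] at h
  rw [h]
  have hi : ⅟(α • (1 : Matrix k k F)) = α⁻¹ • 1 := invOf_eq_right_inv (by simp [hα])
  rw [hi]
  simp [det_smul, det_neg, hα, neg_pow α]
  ring

end swap

section forms

variable [DecidableEq F] {m : ℕ} (hodd : Odd (Fintype.card F))

include hodd in
theorem two_ne : (2 : F) ≠ 0 := two_ne_zero_of_odd rfl hodd

include hodd in
theorem exists_nonsquare_ne_zero : ∃ α : F, ¬ IsSquare α ∧ α ≠ 0 := by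
  obtain ⟨α, hα⟩ := FiniteField.exists_nonsquare (F := F) (by
    intro h
    have := FiniteField.even_card_of_char_two h
    rw [Nat.odd_iff] at hodd
    omega)
  exact ⟨α, hα, fun h => hα (by rw [h]; exact IsSquare.zero)⟩

include hodd in
theorem exists_swap_plus (P : TwoPairs (plusQ m F)) :
    ∃ g : ↥(Lin (plusQ m F)), sqHom P g.1 = -1 ∧ ∃ t : Fˣ, g * g = scalarLin _ t ∧
      mult g.1 = t ∧ sdet g.1 = (-(t : F)) ^ m := by
  obtain ⟨α, hα, hα0⟩ := exists_nonsquare_ne_zero hodd
  obtain ⟨g, hg, hl⟩ := exists_lin_of_matrix P (swapScale α)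
    (by rw [det_swapScale hα0]; exact pow_ne_zero _ (neg_ne_zero.2 hα0)) hα0 fun v => by
      rw [swapScale_mulVec, plusQ_apply, plusQ_apply]
      simp only [Cfsg.quadFormPlus, Sum.elim_inl, Sum.elim_inr, Finset.mul_sum]
      exact Finset.sum_congr rfl fun i _ => by ring
  refine ⟨g, sqHom_eq_neg hg hα, Units.mk0 α hα0,
    mul_self_eq_scalarLin (by rw [hl, swapScale_mul_self]; rfl), Units.ext hg, ?_⟩
  rw [sdet, hl, det_swapScale hα0, Fintype.card_fin, Units.val_mk0]

variable {a b : F} (hab : ∀ z₁ z₂ : F, z₁ ^ 2 + a * z₁ * z₂ + b * z₂ ^ 2 = 0 → z₁ = 0 ∧ z₂ = 0)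

include hodd hab in
theorem exists_binary_norm (α : F) : ∃ u w : F, u ^ 2 + a * u * w + b * w ^ 2 = α := by
  have h2 := two_ne hodd
  have h4 : (4 : F) ≠ 0 := by rw [show (4 : F) = 2 * 2 by norm_num]; exact mul_ne_zero h2 h2
  have hν0 : -((a ^ 2 - 4 * b) / 4) ≠ 0 := fun h => not_isSquare_disc hab h2
    (by rw [neg_eq_zero.1 h]; exact IsSquare.zero)
  obtain ⟨x, w, hxw⟩ := exists_diag_binary h2 one_ne_zero hν0 α
  refine ⟨x - a / 2 * w, w, ?_⟩
  rw [← hxw]
  field_simp
  ring

include hodd hab in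
theorem exists_swap_minus (P : TwoPairs (minusQ m F a b)) :
    ∃ g : ↥(Lin (minusQ m F a b)), sqHom P g.1 = -1 ∧ ∃ t : Fˣ, g * g = scalarLin _ t ∧
      mult g.1 = t ∧ sdet g.1 = (-(t : F)) ^ (m + 1) := by
  obtain ⟨α, hα, hα0⟩ := exists_nonsquare_ne_zero hodd
  obtain ⟨u, w, hN⟩ := exists_binary_norm hodd hab α
  set M : Matrix (Fin 2) (Fin 2) F := !![u, a * u + b * w; w, -u] with hM
  have hdM : M.det = -α := by
    rw [hM, Matrix.det_fin_two_of, ← hN]; ring
  have hdet : (Matrix.fromBlocks (swapScale (k := Fin m) α) 0 0 M).det = (-α) ^ (m + 1) := by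
    rw [Matrix.det_fromBlocks_zero₂₁, det_swapScale hα0, hdM, Fintype.card_fin, pow_succ]
  obtain ⟨g, hg, hl⟩ := exists_lin_of_matrix P (Matrix.fromBlocks (swapScale α) 0 0 M)
    (by rw [hdet]; exact pow_ne_zero _ (neg_ne_zero.2 hα0)) hα0 fun v => by
      rw [Matrix.fromBlocks_mulVec, minusQ_apply, minusQ_apply]
      simp only [Cfsg.quadFormMinus, Matrix.zero_mulVec, add_zero, zero_add, Sum.elim_inl,
        Sum.elim_inr, swapScale_mulVec, Function.comp_apply, mul_add]
      congr 1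
      · rw [Finset.mul_sum]; exact Finset.sum_congr rfl fun i _ => by ring
      · simp [hM, Matrix.mulVec, dotProduct, Fin.sum_univ_two, ← hN]
        ring
  refine ⟨g, sqHom_eq_neg hg hα, Units.mk0 α hα0, mul_self_eq_scalarLin ?_, Units.ext hg, ?_⟩
  · rw [hl, Matrix.fromBlocks_multiply, swapScale_mul_self]
    have hMM : M * M = Matrix.scalar (Fin 2) α := by
      ext i j
      fin_cases i <;> fin_cases j <;> simp [hM, Matrix.mul_apply, Fin.sum_univ_two, ← hN] <;> ring
    simp [hMM, Matrix.scalar_apply, Matrix.fromBlocks_diagonal, Units.val_mk0]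
  · rw [sdet, hl, hdet, Units.val_mk0]

end forms

section sign

variable [DecidableEq F] {ι : Type} [Fintype ι] [DecidableEq ι] {Q : QuadraticForm F (ι → F)}
  (h2 : (2 : F) ≠ 0) (hQ : (QuadraticMap.polarBilin Q).Nondegenerate) (P : TwoPairs Q) {m : ℕ}
  (hc : Fintype.card ι = 2 * m)

/-- The sign of an outer involution is `(-1) ^ m`. -/
theorem eps_swap {g : ↥(Lin Q)} {t : Fˣ} (ht : mult g.1 = t)
    (hd : sdet g.1 = (-(t : F)) ^ m) : eps h2 hQ P hc g = (-1) ^ m := by
  have h := eps_eq_one_iff h2 hQ P hc g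
  rw [hd, ht] at h
  rcases m.even_or_odd with hm | hm
  · rw [hm.neg_one_pow]
    exact h.2 (hm.neg_pow _)
  · rw [hm.neg_one_pow]
    refine (Int.units_eq_one_or _).resolve_left fun e => ?_
    rw [hm.neg_pow] at h
    exact mul_ne_zero h2 (pow_ne_zero m t.ne_zero) (by linear_combination -(h.1 e))

end sign

end CfsgLib.POmegaDiag
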